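import Groth.Agent.VBPn.K790.LineCoker
import Groth.Agent.Cyc.K308.PBBasic
import Groth.Agent.Omega.K935.CoprodRank
import Groth.Agent.VBPn.K697.Lift

/-!
# Uniform bundles of rank `< n` on `P^n` split
-/

set_option autoImplicit false
universe u

open CategoryTheory CategoryTheory.Limits AlgebraicGeometry Opposite TopologicalSpace TopCat
open Groth.Agent Groth.Agent.Sga67.Sec Groth.Agent.Sga67.LocBasis K699.TwHom
open Groth.Agent.VarietyB.TwistMul K698.Val K698.Pl Groth.Agent.Ega3A.TwistBC MvPolynomial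
open K699.GMat (cst exists_cst)

namespace K790.Uniform

open K790.LineSys K790.Eqp K790.LineSide K697.Lin K697.LinSeq K790.LineApp K790.LineCoker

attribute [local instance] CategoryTheory.Limits.HasFiniteBiproducts.of_hasFiniteProducts

variable {n : ℕ} {k : Type u} [Field k]

theorem spl_of_iso {T : Type} [Fintype T] {a : T → ℤ} {F : (PP n k).Modules}
    (e : F ≅ ∐ fun j => OO n k (a j)) : Nonempty (Spl F a) := by
  classical
  let e' : F ≅ ⨁ fun j => OO n k (a j) := e ≪≫ (biproduct.isoCoproduct _).symm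
  refine ⟨⟨fun j => biproduct.ι (fun j => OO n k (a j)) j ≫ e'.inv,
    fun j => e'.hom ≫ biproduct.π (fun j => OO n k (a j)) j, ?_, ?_, ?_⟩⟩
  · intro j
    rw [Category.assoc, e'.inv_hom_id_assoc, biproduct.ι_π_self]
  · intro j l h
    rw [Category.assoc, e'.inv_hom_id_assoc, biproduct.ι_π_ne _ h]
  · have h7 : ∀ j, (e'.hom ≫ biproduct.π (fun j => OO n k (a j)) j) ≫
        biproduct.ι (fun j => OO n k (a j)) j ≫ e'.inv =
        e'.hom ≫ (biproduct.π (fun j => OO n k (a j)) j ≫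
          biproduct.ι (fun j => OO n k (a j)) j) ≫ e'.inv := fun j => by
      simp only [Category.assoc]
    simp only [h7]
    rw [← Preadditive.comp_sum, ← Preadditive.sum_comp, biproduct.total, Category.id_comp, e'.hom_inv_id]

/-- Reindexing. -/
noncomputable def Spl.reindex {T T' : Type} [Fintype T] [Fintype T'] {a : T → ℤ} {F : (PP n k).Modules} (S : Spl F a)
    (σ : T' ≃ T) : Spl F (fun j => a (σ j)) where
  ρ j := S.ρ (σ j)
  π j := S.π (σ j)
  self j := S.self _
  ne j l h := S.ne _ _ (fun h' => h (σ.injective h'))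
  tot := (Equiv.sum_comp σ fun j => S.π j ≫ S.ρ j).trans S.tot

/-- Splitting of an extension. -/
noncomputable def splOfSplitting {S : ShortComplex (PP n k).Modules} (hS : S.Splitting) {T T' : Type} [Fintype T] [Fintype T']
    {a : T → ℤ} {a' : T' → ℤ} (S₁ : Spl S.X₁ a) (S₃ : Spl S.X₃ a') : Spl S.X₂ (Sum.elim a a') where
  ρ := fun j => match j with
    | Sum.inl j => S₁.ρ j ≫ S.f
    | Sum.inr j => S₃.ρ j ≫ hS.s
  π := fun j => match j with
    | Sum.inl j => hS.r ≫ S₁.π j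
    | Sum.inr j => S.g ≫ S₃.π j
  self := by
    rintro (j | j)
    · change (S₁.ρ j ≫ S.f) ≫ hS.r ≫ S₁.π j = 𝟙 _
      rw [Category.assoc, ← Category.assoc S.f, hS.f_r, Category.id_comp, S₁.self]
    · change (S₃.ρ j ≫ hS.s) ≫ S.g ≫ S₃.π j = 𝟙 _
      rw [Category.assoc, ← Category.assoc hS.s, hS.s_g, Category.id_comp, S₃.self]
  ne := by
    rintro (j | j) (l | l) h
    · change (S₁.ρ j ≫ S.f) ≫ hS.r ≫ S₁.π l = 0
      rw [Category.assoc, ← Category.assoc S.f, hS.f_r, Category.id_comp, S₁.ne _ _ fun h' => h (by rw [h'])]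
    · change (S₁.ρ j ≫ S.f) ≫ S.g ≫ S₃.π l = 0
      rw [Category.assoc, ← Category.assoc S.f, S.zero, zero_comp, comp_zero]
    · change (S₃.ρ j ≫ hS.s) ≫ hS.r ≫ S₁.π l = 0
      rw [Category.assoc, ← Category.assoc hS.s, hS.s_r, zero_comp, comp_zero]
    · change (S₃.ρ j ≫ hS.s) ≫ S.g ≫ S₃.π l = 0
      rw [Category.assoc, ← Category.assoc hS.s, hS.s_g, Category.id_comp, S₃.ne _ _ fun h' => h (by rw [h'])]
  tot := by
    rw [Fintype.sum_sum_type]
    change ∑ j, (hS.r ≫ S₁.π j) ≫ (S₁.ρ j ≫ S.f) + ∑ j, (S.g ≫ S₃.π j) ≫ (S₃.ρ j ≫ hS.s) = 𝟙 _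
    have h1 : ∀ j, (hS.r ≫ S₁.π j) ≫ (S₁.ρ j ≫ S.f) = hS.r ≫ (S₁.π j ≫ S₁.ρ j) ≫ S.f := fun j => by
      simp only [Category.assoc]
    have h2 : ∀ j, (S.g ≫ S₃.π j) ≫ (S₃.ρ j ≫ hS.s) = S.g ≫ (S₃.π j ≫ S₃.ρ j) ≫ hS.s := fun j => by
      simp only [Category.assoc]
    simp only [h1, h2]
    rw [← Preadditive.comp_sum, ← Preadditive.sum_comp, S₁.tot, Category.id_comp,
      ← Preadditive.comp_sum, ← Preadditive.sum_comp, S₃.tot, Category.id_comp]
    exact hS.id

/-- The splitting of a sum of copies of `O(b)`. -/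
noncomputable def splSum (κ : ℕ) (b : ℤ) : Spl (⨁ fun _ : Fin κ => OO n k b) (fun _ : Fin κ => b) where
  ρ j := biproduct.ι (fun _ : Fin κ => OO n k b) j
  π j := biproduct.π (fun _ : Fin κ => OO n k b) j
  self j := biproduct.ι_π_self _ _
  ne j l h := biproduct.ι_π_ne _ h
  tot := biproduct.total

/-- Lifting a splitting of the quotient. -/
theorem exists_splitting {S : ShortComplex (PP n k).Modules} (hS : S.ShortExact) {T : Type} [Fintype T] {a : T → ℤ}
    (S₃ : Spl S.X₃ a) (h : ∀ (j : T) (f : OO n k (a j) ⟶ S.X₃), ∃ g : OO n k (a j) ⟶ S.X₂, g ≫ S.g = f) :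
    Nonempty S.Splitting := by
  choose g hg using fun j => h j (S₃.ρ j)
  have hs : (∑ j, S₃.π j ≫ g j) ≫ S.g = 𝟙 _ := by
    rw [Preadditive.sum_comp, ← S₃.tot]
    exact Finset.sum_congr rfl fun j _ => by rw [Category.assoc, hg]
  have := hS.mono_f
  exact ⟨ShortComplex.Splitting.ofExactOfSection S hS.exact (∑ j, S₃.π j ≫ g j) hs this⟩

theorem iso_of_spl {T : Type} [Fintype T] {a : T → ℤ} {F : (PP n k).Modules} (S : Spl F a) :
    Nonempty (F ≅ ∐ fun j => OO n k (a j)) := by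
  classical
  let b : Bicone (fun j => OO n k (a j)) :=
    { pt := F
      π := S.π
      ι := S.ρ
      ι_π := fun j l => by
        by_cases h : j = l
        · subst h
          rw [dif_pos rfl, S.self]
          rfl
        · rw [dif_neg h, S.ne _ _ h] }
  have hb : b.IsBilimit := isBilimitOfTotal b S.tot
  exact ⟨hb.isColimit.coconePointUniqueUpToIso (colimit.isColimit _)⟩

theorem hh_sum (hn : 2 ≤ n) (κ : ℕ) (b₀ d : ℤ) (M : (CohB1.ProjSpace n k).Modules)
    (e : M ≅ ∐ fun _ : Fin κ => Twist.twistProjSpace n k b₀) :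
    Subsingleton (Coh.HH (CohB1.ProjSpace n k) (CohB1.tensorMod M (Twist.twistProjSpace n k d)) 1) := by
  have h1 := K697.Lift.subsingleton_HH_sum (n := n) (k := k) (ι := Fin κ) (fun _ => b₀) d 1
    (fun _ => Groth.Agent.S0844.result k n (b₀ + d) 1 (by omega) (by omega))
  exact Groth.Agent.Fga.HShift.subsingleton_of_iso (K697.Lift.twIso e d).symm 1 h1

/-- Uniform bundles of rank `< n`. -/
theorem main [IsAlgClosed k] : ∀ (r : ℕ) (T : Type) [Fintype T] (a : T → ℤ), Fintype.card T = r → r < n →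
    ∀ (E : (PP n k).Modules), FlatMod.IsFinLocFreeOfRank r E →
    (∀ (A : (Fin (n + 1) → k) →ₗ[k] (Fin (1 + 1) → k)) (hA : Function.Surjective A),
      Nonempty (Spl (n := 1) (k := k) ((Scheme.Modules.pullback (Proj.map (K697.Lin.gr A)
        (Groth.Agent.Sga5.ProjSurj.irrelevant_le_map (degSurj hA)))).obj E) a)) →
    ∃ (T' : Type) (_ : Fintype T') (b : T' → ℤ), Fintype.card T' = r ∧ Nonempty (Spl E b) := by
  intro r
  induction r using Nat.strong_induction_on with
  | _ r ih =>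
  intro T _ a hT hr E hE H
  rcases Nat.eq_zero_or_pos r with rfl | hr0
  · have hz := K308.PB.isZero_of_rank_zero hE
    exact ⟨Fin 0, inferInstance, Fin.elim0, by simp, ⟨⟨fun j => j.elim0, fun j => j.elim0, fun j => j.elim0,
      fun j => j.elim0, hz.eq_of_src _ _⟩⟩⟩
  have hne : Nonempty T := Fintype.card_pos_iff.mp (hT ▸ hr0)
  obtain ⟨j₀, hj₀⟩ := Finite.exists_max a
  obtain ⟨j₁, hj₁⟩ := Finite.exists_min a
  obtain ⟨m₀, hm₀⟩ := K790.EqpEx.exists_eqp (Krr.H487.KerRank.isFinLocFree_of_rank hE)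
  obtain ⟨N, D₀, hD⟩ := hm₀ (min m₀ (a j₁)) (min_le_left _ _)
  generalize hmdef : min m₀ (a j₁) = m at hD
  have hm : ∀ j, m ≤ a j := fun j => hmdef ▸ (min_le_right _ _).trans (hj₁ j)
  generalize hb₀ : a j₀ = b₀ at hj₀
  obtain ⟨P, -⟩ := hD (max D₀ (b₀ - m).toNat) (le_max_left _ _)
  generalize hDdef : max D₀ (b₀ - m).toNat = D at P
  have hDle : b₀ ≤ m + D := by
    have h1 : (b₀ - m).toNat ≤ D := hDdef ▸ le_max_right _ _
    omega
  have hb : b₀ + ((m + D - b₀).toNat : ℤ) = m + D := by omega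
  obtain ⟨G, hG1, hG2, hG3⟩ := exists_G P hb hj₀ hm (by omega) (by omega) H
  generalize hκ : Nat.card {j : T // a j = b₀} = κ at G hG1 hG2 hG3
  have hκ0 : 0 < κ := by
    rw [← hκ]
    have : Nonempty {j : T // a j = b₀} := ⟨⟨j₀, hb₀⟩⟩
    exact Nat.card_pos
  choose v hv using fun l => P.exists_map hb (fun j c => (⟨G l j c, hG1 l j c⟩ : gr n k _)) (hG2 l)
  have hco := K790.Coker.isFinLocFreeOfRank_coker (biproduct.desc v) (r := r) (κ := κ) fun x => by
    obtain ⟨c, hc⟩ := K790.VB.exists_minor (C := Fin (n + 1) × Fin N) (fun l z => G l z.1 z.2) (fun p hp => by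
      rw [Fintype.linearIndependent_iff]
      intro d hd
      apply Fintype.linearIndependent_iff.mp (hG3 p hp) d
      funext j c
      have h1 := congrFun hd (j, c)
      rw [Finset.sum_apply] at h1
      rw [Finset.sum_apply, Finset.sum_apply]
      exact h1) x
    exact K790.VB.local_split hE P hb (fun l j c => ⟨G l j c, hG1 l j c⟩) v hv x c hc
  have hκ2 : κ = Fintype.card {j : T // a j = b₀} := by rw [← hκ, Nat.card_eq_fintype_card]
  have hcard' : Fintype.card {j : T // a j ≠ b₀} = r - κ := by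
    rw [Fintype.card_subtype_compl, hT, hκ2]
  obtain ⟨T'', _, b, hcard, ⟨S₃⟩⟩ := ih (r - κ) (by omega) {j : T // a j ≠ b₀} (fun j => a j.1) hcard' (by omega)
    (cokernel (biproduct.desc v)) hco.2 fun A hA => by
      obtain ⟨S⟩ := H A hA
      refine spl_pull (K697.Lin.gr A) (Groth.Agent.Sga5.ProjSurj.irrelevant_le_map (degSurj hA))
        (Groth.Agent.PerfB.TwistDer.coveredByOne n k) P hb (fun l j c => ⟨G l j c, hG1 l j c⟩) v hv hG3 ?_ hj₀ hκ S
      obtain ⟨q, hq⟩ := exists_pt_ne A hA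
      exact ⟨q, _, hq, fun f => eval_subst A q f⟩
  have hmono := hco.1
  let S : ShortComplex (PP n k).Modules :=
    ShortComplex.mk (biproduct.desc v) (cokernel.π (biproduct.desc v)) (cokernel.condition _)
  have hS : S.ShortExact :=
    { exact := ShortComplex.exact_cokernel _
      mono_f := hmono
      epi_g := inferInstanceAs (Epi (cokernel.π (biproduct.desc v))) }
  have hn2 : 2 ≤ n := by omega
  have hvan : ∀ d : ℤ, Subsingleton (Coh.HH (CohB1.ProjSpace n k) (CohB1.tensorMod S.X₁ (Twist.twistProjSpace n k d)) 1) :=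
    fun d => hh_sum hn2 κ b₀ d _ (biproduct.isoCoproduct (fun _ : Fin κ => OO n k b₀))
  obtain ⟨spl⟩ := exists_splitting hS S₃ fun j f => K697.ExtTw.exists_lift n k hS (b j) (hvan (-(b j))) f
  refine ⟨Fin κ ⊕ T'', inferInstance, Sum.elim (fun _ => b₀) b, ?_, ⟨splOfSplitting spl (splSum κ b₀) S₃⟩⟩
  rw [Fintype.card_sum, Fintype.card_fin, hcard]
  have h1 : κ ≤ Fintype.card T := by
    rw [hκ2]
    exact Fintype.card_subtype_le _
  omega

end K790.Uniform
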