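import Mathlib.RingTheory.MvPolynomial.Homogeneous

/-!
# Binary forms and their coefficients
-/

set_option autoImplicit false

open MvPolynomial

namespace K790.BinForm

variable {A B : Type*} [CommRing A] [CommRing B]

/-- The monomial `s^(m-e) t^e`. -/
noncomputable def mon (m : ℕ) (e : Fin (m + 1)) : Fin 2 →₀ ℕ := Finsupp.single 0 (m - e) + Finsupp.single 1 (e : ℕ)

theorem mon_zero_apply (m : ℕ) (e : Fin (m + 1)) : mon m e 0 = m - e := by
  simp [mon]

theorem mon_one_apply (m : ℕ) (e : Fin (m + 1)) : mon m e 1 = e := by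
  simp [mon]

theorem mon_injective (m : ℕ) : Function.Injective (mon m) := by
  intro e e' h
  have := DFunLike.congr_fun h 1
  rw [mon_one_apply, mon_one_apply] at this
  exact Fin.ext this

theorem exists_mon {m : ℕ} {d : Fin 2 →₀ ℕ} (h : d.degree = m) : ∃ e, mon m e = d := by
  have h1 : d 0 + d 1 = m := by
    rw [← h, Finsupp.degree_eq_sum, Fin.sum_univ_two]
  refine ⟨⟨d 1, by omega⟩, ?_⟩
  ext i
  fin_cases i
  · change mon m _ 0 = d 0
    rw [mon_zero_apply]
    simp; omega
  · exact mon_one_apply _ _

/-- The binary form with given coefficients. -/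
noncomputable def form (m : ℕ) : (Fin (m + 1) → A) →ₗ[A] MvPolynomial (Fin 2) A where
  toFun c := ∑ e, monomial (mon m e) (c e)
  map_add' c c' := by simp [Finset.sum_add_distrib]
  map_smul' a c := by simp [Finset.smul_sum, smul_monomial]

theorem coeff_form (m : ℕ) (c : Fin (m + 1) → A) (e : Fin (m + 1)) : coeff (mon m e) (form m c) = c e := by
  classical
  change coeff (mon m e) (∑ e, monomial (mon m e) (c e)) = _
  rw [coeff_sum, Finset.sum_eq_single e]
  · rw [coeff_monomial, if_pos rfl]
  · intro e' _ h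
    rw [coeff_monomial, if_neg (fun h' => h (mon_injective m h'))]
  · intro h; exact absurd (Finset.mem_univ e) h

theorem degree_mon (m : ℕ) (e : Fin (m + 1)) : (mon m e).degree = m := by
  rw [Finsupp.degree_eq_sum, Fin.sum_univ_two, mon_zero_apply, mon_one_apply]
  omega

theorem form_isHomogeneous (m : ℕ) (c : Fin (m + 1) → A) : (form m c).IsHomogeneous m := by
  refine IsHomogeneous.sum _ _ _ fun e _ => isHomogeneous_monomial _ (degree_mon m e)

theorem form_coeff {m : ℕ} {F : MvPolynomial (Fin 2) A} (hF : F.IsHomogeneous m) :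
    form m (fun e => coeff (mon m e) F) = F := by
  classical
  ext d
  by_cases hd : d.degree = m
  · obtain ⟨e, rfl⟩ := exists_mon hd
    exact coeff_form _ _ _
  · rw [(form_isHomogeneous m _).coeff_eq_zero hd, hF.coeff_eq_zero hd]

theorem form_injective (m : ℕ) : Function.Injective (form (A := A) m) := by
  intro c c' h
  funext e
  rw [← coeff_form m c e, h, coeff_form]

/-- Forms of degree `m` vanish if all their coefficients do. -/
theorem eq_zero_of_coeff {m : ℕ} {F : MvPolynomial (Fin 2) A} (hF : F.IsHomogeneous m)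
    (h : ∀ e, coeff (mon m e) F = 0) : F = 0 := by
  rw [← form_coeff hF]
  have : (fun e => coeff (mon m e) F) = 0 := funext h
  rw [this, map_zero]

theorem map_form (φ : A →+* B) (m : ℕ) (c : Fin (m + 1) → A) :
    map φ (form m c) = form m (fun e => φ (c e)) := by
  change map φ (∑ e, monomial (mon m e) (c e)) = ∑ e, monomial (mon m e) (φ (c e))
  rw [map_sum]
  exact Finset.sum_congr rfl fun e _ => map_monomial _ _ _

theorem eval₂_form (φ : A →+* B) (m : ℕ) (c : Fin (m + 1) → A) (z : Fin 2 → B) :
    eval₂ φ z (form m c) = ∑ e, φ (c e) * z 0 ^ (m - (e : ℕ)) * z 1 ^ (e : ℕ) := by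
  change eval₂ φ z (∑ e, monomial (mon m e) (c e)) = _
  rw [eval₂_sum]
  refine Finset.sum_congr rfl fun e _ => ?_
  rw [eval₂_monomial, mul_assoc]
  congr 1
  rw [Finsupp.prod_fintype _ _ (fun i => pow_zero _), Fin.prod_univ_two, mon_zero_apply, mon_one_apply]

end K790.BinForm
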