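import Groth.Agent.Sga67.LocBasisOps
import Groth.Agent.Krr.H487.KerRank
import Mathlib.AlgebraicGeometry.ResidueField
import Mathlib.LinearAlgebra.Matrix.NonsingularInverse
import Mathlib.LinearAlgebra.Dimension.Constructions

/-!
# Cokernels of locally split monomorphisms are finite locally free
-/

set_option autoImplicit false
universe u

open CategoryTheory CategoryTheory.Limits AlgebraicGeometry Opposite TopologicalSpace
open Groth.Agent Groth.Agent.Sga67.Sec Groth.Agent.Sga67.LocBasis

namespace K790.Coker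

/-- Linearly independent vectors can be completed to a basis by standard basis vectors. -/
theorem exists_completion {K : Type*} [Field K] {κ r : ℕ} (R : Fin κ → Fin r → K) (hR : LinearIndependent K R) :
    ∃ (c : ℕ) (τ : Fin c → Fin r) (σ : Fin κ ⊕ Fin c ≃ Fin r),
      (Matrix.of fun i j => Sum.elim R (fun t => Pi.single (τ t) (1 : K)) (σ.symm i) j).det ≠ 0 := by
  classical
  let w : Fin κ ⊕ Fin r → Fin r → K := Sum.elim R fun t => Pi.single t 1
  have hs : LinearIndepOn K w (Set.range Sum.inl) := by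
    rw [linearIndepOn_range_iff Sum.inl_injective]
    exact hR
  obtain ⟨b, -, hsb, hspan, hb⟩ := exists_linearIndepOn_extension hs (Set.subset_univ _)
  have hb' : LinearIndependent K (fun x : b => w x) := hb
  have htop : ⊤ ≤ Submodule.span K (Set.range fun x : b => w x) := by
    have h1 : Set.range (fun x : b => w x) = w '' b := by
      rw [Set.image_eq_range]
    rw [h1]
    have h2 : Submodule.span K (w '' Set.univ) = ⊤ := by
      rw [eq_top_iff, ← (Pi.basisFun K (Fin r)).span_eq]
      apply Submodule.span_mono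
      rintro _ ⟨i, rfl⟩
      exact ⟨Sum.inr i, trivial, by simp [w]⟩
    rw [← h2]
    exact Submodule.span_le.mpr hspan
  let B : Module.Basis b K (Fin r → K) := Module.Basis.mk hb' htop
  have hcard : Fintype.card b = r := by
    rw [← Module.finrank_eq_card_basis B, Module.finrank_fin_fun]
  let b' := {t : Fin r // Sum.inr t ∈ b}
  let e2 : Fin (Fintype.card b') ≃ b' := (Fintype.equivFin b').symm
  let e1 : Fin κ ⊕ b' ≃ b :=
    { toFun := fun z => match z with
        | Sum.inl l => ⟨Sum.inl l, hsb ⟨l, rfl⟩⟩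
        | Sum.inr t => ⟨Sum.inr t.1, t.2⟩
      invFun := fun z => match z with
        | ⟨Sum.inl l, _⟩ => Sum.inl l
        | ⟨Sum.inr t, h⟩ => Sum.inr ⟨t, h⟩
      left_inv := by rintro (l | t) <;> rfl
      right_inv := by rintro ⟨l | t, h⟩ <;> rfl }
  let e3 : Fin κ ⊕ Fin (Fintype.card b') ≃ b := (Equiv.sumCongr (Equiv.refl _) e2).trans e1
  have hc2 : Fintype.card (Fin κ ⊕ Fin (Fintype.card b')) = r := by
    rw [Fintype.card_congr e3, hcard]
  let σ : Fin κ ⊕ Fin (Fintype.card b') ≃ Fin r := Fintype.equivFinOfCardEq hc2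
  refine ⟨Fintype.card b', fun t => (e2 t).1, σ, ?_⟩
  have hli : LinearIndependent K (fun i : Fin r => w (e3 (σ.symm i))) :=
    hb'.comp (fun i => e3 (σ.symm i)) (e3.injective.comp σ.symm.injective)
  have hrow : (fun i : Fin r => w (e3 (σ.symm i))) =
      (Matrix.of fun i j => Sum.elim R (fun t => Pi.single (e2 t).1 (1 : K)) (σ.symm i) j).row := by
    funext i j
    change w (e3 (σ.symm i)) j = Sum.elim R (fun t => Pi.single (e2 t).1 (1 : K)) (σ.symm i) j
    rcases σ.symm i with l | t <;> rfl
  rw [hrow, Matrix.linearIndependent_rows_iff_isUnit, Matrix.isUnit_iff_isUnit_det] at hli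
  exact hli.ne_zero

variable {X : Scheme.{u}}

theorem isUnit_res (U V : X.Opens) (f : Γ(X, U)) (h : V ≤ X.basicOpen f) (h' : V ≤ U) : IsUnit (resO X h' f) := by
  have h1 : IsUnit (resO X (X.basicOpen_le f) f) := X.toLocallyRingedSpace.toRingedSpace.isUnit_res_basicOpen f
  rw [← resO_resO (X.basicOpen_le f) h]
  exact h1.map _

/-- Completing a family of sections to a local basis. -/
theorem exists_extend {E : X.Modules} {U : X.Opens} {r κ : ℕ} {b : Fin r → Sec E U} (hb : IsLocBasis b) {x : X}
    (hx : x ∈ U) (v : Fin κ → Sec E U) (A : Matrix (Fin κ) (Fin r) Γ(X, U))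
    (hA : ∀ l, v l = ∑ i, A l i • b i) (B : Matrix (Fin r) (Fin κ) Γ(X, U))
    (hAB : x ∈ X.basicOpen (A * B).det) :
    ∃ (V : X.Opens) (h : V ≤ U) (c : ℕ) (e : Fin c → Sec E V), x ∈ V ∧ κ + c = r ∧
      IsLocBasis (Sum.elim (fun l => res E h (v l)) e) := by
  classical
  let ev : Γ(X, U) →+* X.residueField x := (X.evaluation U x hx).hom
  have hev : ∀ f : Γ(X, U), ev f ≠ 0 ↔ x ∈ X.basicOpen f := fun f =>
    X.evaluation_ne_zero_iff_mem_basicOpen x hx f
  let R : Fin κ → Fin r → X.residueField x := fun l i => ev (A l i)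
  have hR : LinearIndependent (X.residueField x) R := by
    rw [Fintype.linearIndependent_iff]
    intro w hw
    have h1 : ((A * B).map ev).det ≠ 0 := by
      rw [← RingHom.mapMatrix_apply, ← RingHom.map_det]
      exact (hev _).mpr hAB
    have h2 : Matrix.vecMul w (A.map ev) = 0 := by
      funext i
      rw [Matrix.vecMul, dotProduct]
      have h3 := congrFun hw i
      rw [Finset.sum_apply] at h3
      exact h3
    have h4 : Matrix.vecMul w ((A * B).map ev) = 0 := by
      rw [Matrix.map_mul, ← Matrix.vecMul_vecMul, h2, Matrix.zero_vecMul]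
    have h5 := Matrix.eq_zero_of_vecMul_eq_zero h1 h4
    exact fun l => congrFun h5 l
  obtain ⟨c, τ, σ, hdet⟩ := exists_completion R hR
  let N : Matrix (Fin r) (Fin r) Γ(X, U) :=
    Matrix.of fun i j => Sum.elim A (fun t => Pi.single (τ t) (1 : Γ(X, U))) (σ.symm i) j
  have hN : ev N.det ≠ 0 := by
    rw [RingHom.map_det, RingHom.mapMatrix_apply]
    have hNN : N.map ev = Matrix.of fun i j => Sum.elim R (fun t => Pi.single (τ t) (1 : X.residueField x))
      (σ.symm i) j := ?_
    · rw [hNN]
      exact hdet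
    ext i j
    change ev (Sum.elim A (fun t => Pi.single (τ t) (1 : Γ(X, U))) (σ.symm i) j) =
      Sum.elim R (fun t => Pi.single (τ t) 1) (σ.symm i) j
    rcases σ.symm i with l | t
    · rfl
    · change ev ((Pi.single (τ t) (1 : Γ(X, U)) : Fin r → Γ(X, U)) j) = (Pi.single (τ t) 1 : Fin r → X.residueField x) j
      by_cases h : j = τ t
      · subst h
        rw [Pi.single_eq_same, Pi.single_eq_same, map_one]
      · rw [Pi.single_eq_of_ne h, Pi.single_eq_of_ne h, map_zero]
  have hV := (hev _).mp hN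
  have hcard : κ + c = r := by
    have := Fintype.card_congr σ
    simpa using this
  refine ⟨X.basicOpen N.det, X.basicOpen_le _, c, fun t => res E (X.basicOpen_le _) (b (τ t)), hV, hcard, ?_⟩
  intro W hW
  have hWU : W ≤ U := hW.trans (X.basicOpen_le _)
  let NW : Matrix (Fin r) (Fin r) Γ(X, W) := N.map (resO X hWU)
  have hNW : IsUnit NW.det := by
    have h1 : NW.det = resO X hWU N.det := by
      rw [RingHom.map_det, RingHom.mapMatrix_apply]
    rw [h1]
    exact isUnit_res _ _ _ hW hWU
  have hkey : ∀ a : Fin κ ⊕ Fin c → Γ(X, W),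
      comb (Sum.elim (fun l => res E (X.basicOpen_le N.det) (v l)) fun t => res E (X.basicOpen_le N.det) (b (τ t))) hW a =
        comb b hWU (Matrix.vecMul (a ∘ σ.symm) NW) := by
    intro a
    have h1 : ∀ z : Fin κ ⊕ Fin c, res E hW (Sum.elim (fun l => res E (X.basicOpen_le N.det) (v l))
        (fun t => res E (X.basicOpen_le N.det) (b (τ t))) z) = ∑ j, NW (σ z) j • res E hWU (b j) := by
      intro z
      have h2 : ∀ j, NW (σ z) j = resO X hWU (Sum.elim A (fun t => Pi.single (τ t) (1 : Γ(X, U))) z j) := by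
        intro j
        change resO X hWU (Sum.elim A (fun t => Pi.single (τ t) (1 : Γ(X, U))) (σ.symm (σ z)) j) = _
        rw [Equiv.symm_apply_apply]
      simp only [h2]
      rcases z with l | t
      · change res E hW (res E _ (v l)) = ∑ j, resO X hWU (A l j) • _
        rw [res_res, hA, map_sum]
        exact Finset.sum_congr rfl fun j _ => res_smul _ _ _ _
      · change res E hW (res E _ (b (τ t))) = ∑ j, resO X hWU ((Pi.single (τ t) (1 : Γ(X, U)) : Fin r → Γ(X, U)) j) • _
        rw [res_res, Finset.sum_eq_single (τ t)]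
        · rw [Pi.single_eq_same, map_one, one_smul]
        · intro j _ hj
          rw [Pi.single_eq_of_ne hj, map_zero, zero_smul]
        · intro h; exact absurd (Finset.mem_univ _) h
    rw [comb_apply, comb_apply, ← σ.symm.sum_comp]
    have h3 : ∀ i : Fin r, a (σ.symm i) • res E hW (Sum.elim (fun l => res E (X.basicOpen_le N.det) (v l))
        (fun t => res E (X.basicOpen_le N.det) (b (τ t))) (σ.symm i)) =
        ∑ j, (a (σ.symm i) * NW i j) • res E hWU (b j) := by
      intro i
      rw [h1, Equiv.apply_symm_apply, Finset.smul_sum]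
      exact Finset.sum_congr rfl fun j _ => smul_smul _ _ _
    rw [Finset.sum_congr rfl fun i _ => h3 i, Finset.sum_comm]
    refine Finset.sum_congr rfl fun j _ => ?_
    rw [← Finset.sum_smul]
    rfl
  have hfun : ⇑(comb (Sum.elim (fun l => res E (X.basicOpen_le N.det) (v l))
      fun t => res E (X.basicOpen_le N.det) (b (τ t))) hW) =
      (fun a => comb b hWU a) ∘ (fun a => Matrix.vecMul a NW) ∘ (fun a => a ∘ σ.symm) := funext hkey
  rw [hfun]
  have hbij1 : Function.Bijective fun a : Fin κ ⊕ Fin c → Γ(X, W) => a ∘ σ.symm :=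
    (Equiv.arrowCongr σ (Equiv.refl _)).bijective
  have hinv : NW * NW⁻¹ = 1 := Matrix.mul_nonsing_inv _ hNW
  have hinv' : NW⁻¹ * NW = 1 := Matrix.nonsing_inv_mul _ hNW
  have hbij2 : Function.Bijective fun a : Fin r → Γ(X, W) => Matrix.vecMul a NW := by
    refine Function.bijective_iff_has_inverse.mpr ⟨fun a => Matrix.vecMul a NW⁻¹, fun a => ?_, fun a => ?_⟩
    · change Matrix.vecMul (Matrix.vecMul a NW) NW⁻¹ = a
      rw [Matrix.vecMul_vecMul, hinv, Matrix.vecMul_one]
    · change Matrix.vecMul (Matrix.vecMul a NW⁻¹) NW = a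
      rw [Matrix.vecMul_vecMul, hinv', Matrix.vecMul_one]
  exact (hb W hWU).comp (hbij2.comp hbij1)

theorem mono_of_bases {F E : X.Modules} (f : F ⟶ E) {κ κ' : X → Type} [∀ x, Fintype (κ x)] [∀ x, Fintype (κ' x)]
    (U : X → X.Opens) (hU : ∀ x, x ∈ U x) (o : ∀ x, κ x → Sec F (U x)) (ho : ∀ x, IsLocBasis (o x))
    (e : ∀ x, κ' x → Sec E (U x)) (he : ∀ x, IsLocBasis (Sum.elim (fun l => appS f (U x) (o x l)) (e x))) :
    Mono f := by
  apply mono_of_locally_injective
  intro x V hx
  refine ⟨V ⊓ U x, inf_le_left, ⟨hx, hU x⟩, fun s hs => ?_⟩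
  obtain ⟨a, rfl⟩ := (ho x (V ⊓ U x) inf_le_right).2 s
  rw [appS_comb] at hs
  have h1 : comb (Sum.elim (fun l => appS f (U x) (o x l)) (e x)) (inf_le_right : V ⊓ U x ≤ U x) (Sum.elim a 0) = 0 := by
    rw [comb_sum, Sum.elim_comp_inl, Sum.elim_comp_inr, map_zero, add_zero]
    exact hs
  have h2 := (he x (V ⊓ U x) inf_le_right).1 (h1.trans (map_zero _).symm)
  have h3 : a = 0 := by
    funext l
    exact congrFun h2 (Sum.inl l)
  rw [h3, map_zero]

theorem coker_basis {S : ShortComplex X.Modules} (hS : S.ShortExact) {κ κ' : Type} [Fintype κ] [Fintype κ']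
    {U : X.Opens} {o : κ → Sec S.X₁ U} (ho : IsLocBasis o) {e : κ' → Sec S.X₂ U}
    (he : IsLocBasis (Sum.elim (fun l => appS S.f U (o l)) e)) : IsLocBasis (fun t => appS S.g U (e t)) := by
  have hm := hS.mono_f
  have hep := hS.epi_g
  refine isLocBasis_of_locally' _ ?_ ?_
  · intro V h
    rw [← LinearMap.ker_eq_bot, LinearMap.ker_eq_bot']
    intro a ha
    rw [← appS_comb] at ha
    obtain ⟨t, ht⟩ := exists_of_appS_eq_zero hS.exact _ ha
    obtain ⟨c, rfl⟩ := (ho V h).2 t
    rw [appS_comb] at ht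
    have h1 : comb (Sum.elim (fun l => appS S.f U (o l)) e) h (Sum.elim c (-a)) = 0 := by
      rw [comb_sum, Sum.elim_comp_inl, Sum.elim_comp_inr, map_neg, ht, add_neg_cancel]
    have h2 := (he V h).1 (h1.trans (map_zero _).symm)
    funext l
    have h3 := congrFun h2 (Sum.inr l)
    exact neg_eq_zero.mp h3
  · intro V h s x hx
    obtain ⟨W, hW, hxW, t, ht⟩ := locally_surjective_of_epi S.g s x hx
    obtain ⟨c, rfl⟩ := (he W (hW.trans h)).2 t
    refine ⟨W, hW, hW.trans h, hxW, c ∘ Sum.inr, ?_⟩
    rw [← ht, comb_sum, map_add, ← appS_comb, ← appS_comb, ← appS_comp, S.zero, appS_zero, zero_add]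

/-- The cokernel of a locally split monomorphism is finite locally free. -/
theorem isFinLocFreeOfRank_coker {F E : X.Modules} (f : F ⟶ E) {κ r : ℕ}
    (H : ∀ x : X, ∃ (U : X.Opens) (o : Fin κ → Sec F U) (c : ℕ) (e : Fin c → Sec E U), x ∈ U ∧ κ + c = r ∧
      IsLocBasis o ∧ IsLocBasis (Sum.elim (fun l => appS f U (o l)) e)) :
    Mono f ∧ FlatMod.IsFinLocFreeOfRank (r - κ) (cokernel f) := by
  choose U o c e hx hc ho he using H
  have hmono : Mono f := mono_of_bases f (κ := fun _ => Fin κ) (κ' := fun x => Fin (c x)) U hx o ho e he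
  have hS : (ShortComplex.mk f (cokernel.π f) (cokernel.condition f)).ShortExact :=
    { exact := ShortComplex.exact_cokernel f
      mono_f := hmono
      epi_g := inferInstanceAs (Epi (cokernel.π f)) }
  refine ⟨hmono, ?_⟩
  apply Groth.Agent.Krr.H487.KerRank.isFinLocFreeOfRank_of_exists
  intro x
  refine ⟨U x, Fin (c x), inferInstance, _, hx x, ?_, coker_basis hS (ho x) (he x)⟩
  rw [Fintype.card_fin]
  have := hc x
  omega

end K790.Coker
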