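import Groth.Agent.VBPn.K790.Cut
import Mathlib.LinearAlgebra.Matrix.ToLin
import Mathlib.LinearAlgebra.Dual.Lemmas

/-!
# Kernels of a matrix of polynomials of constant corank on `k^n ∖ 0` inside a space of dimension `< n` are constant
-/

set_option autoImplicit false

universe u

open MvPolynomial

namespace K790.Const

variable {k : Type u} [Field k] {n : ℕ} {D P : Type*} [Fintype D] [Fintype P] [DecidableEq D] [DecidableEq P]
  (T : Matrix P D (MvPolynomial (Fin n) k))

/-- The value of the matrix at a point. -/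
noncomputable def at' (y : Fin n → k) : (D → k) →ₗ[k] (P → k) := Matrix.toLin' (T.map (eval y))

theorem at'_apply (y : Fin n → k) (v : D → k) : at' T y v = (T.map (eval y)).mulVec v := Matrix.toLin'_apply _ _

theorem exists_poly_lin (φ : (D → k) →ₗ[k] k) (g : D → MvPolynomial (Fin n) k) :
    ∃ p : MvPolynomial (Fin n) k, ∀ y, eval y p = φ fun d => eval y (g d) := by
  refine ⟨∑ d, C (φ (Pi.single d 1)) * g d, fun y => ?_⟩
  conv_rhs => rw [← Finset.univ_sum_single (fun d => eval y (g d))]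
  rw [map_sum, map_sum]
  refine Finset.sum_congr rfl fun d _ => ?_
  rw [map_mul, eval_C]
  have : (Pi.single d (eval y (g d)) : D → k) = (eval y (g d)) • Pi.single d (1 : k) := by
    rw [← Pi.single_smul, smul_eq_mul, mul_one]
  rw [this, map_smul, smul_eq_mul, mul_comm]

variable {W : Type*} [AddCommGroup W] [Module k W] [FiniteDimensional k W] (e : (D → k) →ₗ[k] W) {κ : ℕ}

/-- The local description of the kernels. -/
theorem exists_local (y₀ : Fin n → k) (h0 : y₀ ≠ 0)
    (hker : ∀ y : Fin n → k, y ≠ 0 → Module.finrank k (LinearMap.ker (at' T y)) = κ)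
    (hinj : ∀ y : Fin n → k, y ≠ 0 → ∀ v, at' T y v = 0 → e v = 0 → v = 0) :
    ∃ (K₀ : Submodule k (D → k)) (B : W →ₗ[k] (D → k)) (N : Matrix D D (MvPolynomial (Fin n) k)),
      Module.finrank k K₀ = κ ∧ (∀ w, B w ∈ K₀) ∧ (∀ v ∈ K₀, B (e v) = v) ∧ eval y₀ N.det ≠ 0 ∧
      ∀ y : Fin n → k, y ≠ 0 → eval y N.det ≠ 0 → ∀ v, (at' T y v = 0 ↔ at' N y v ∈ K₀) ∧
        (at' T y v = 0 → at' N y v = B (e v)) := by
  classical
  let K₀ : Submodule k (D → k) := LinearMap.ker (at' T y₀)
  obtain ⟨C₀, hC₀⟩ := K₀.exists_isCompl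
  -- `A` with values in `C₀`
  obtain ⟨A, hA1, hA2⟩ : ∃ A : (P → k) →ₗ[k] (D → k), (∀ x, A x ∈ C₀) ∧ ∀ v ∈ C₀, A (at' T y₀ v) = v := by
    have h1 : LinearMap.ker ((at' T y₀).comp C₀.subtype) = ⊥ := by
      rw [LinearMap.ker_eq_bot']
      intro v hv
      have h2 : (v : D → k) ∈ K₀ ⊓ C₀ := ⟨hv, v.2⟩
      rw [hC₀.inf_eq_bot] at h2
      exact Subtype.ext h2
    obtain ⟨σ, hσ⟩ := LinearMap.exists_leftInverse_of_injective _ h1
    refine ⟨C₀.subtype.comp σ, fun x => (σ x).2, fun v hv => ?_⟩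
    have := LinearMap.congr_fun hσ ⟨v, hv⟩
    exact congrArg Subtype.val this
  obtain ⟨B, hB1, hB2⟩ : ∃ B : W →ₗ[k] (D → k), (∀ w, B w ∈ K₀) ∧ ∀ v ∈ K₀, B (e v) = v := by
    have h1 : LinearMap.ker (e.comp K₀.subtype) = ⊥ := by
      rw [LinearMap.ker_eq_bot']
      intro v hv
      exact Subtype.ext (hinj y₀ h0 v v.2 hv)
    obtain ⟨σ, hσ⟩ := LinearMap.exists_leftInverse_of_injective _ h1
    refine ⟨K₀.subtype.comp σ, fun x => (σ x).2, fun v hv => ?_⟩
    have := LinearMap.congr_fun hσ ⟨v, hv⟩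
    exact congrArg Subtype.val this
  let N : Matrix D D (MvPolynomial (Fin n) k) :=
    (LinearMap.toMatrix' A).map C * T + (LinearMap.toMatrix' (B.comp e)).map C
  have hN : ∀ y v, at' N y v = A (at' T y v) + B (e v) := by
    intro y v
    have h1 : N.map (eval y) = (LinearMap.toMatrix' A) * T.map (eval y) + LinearMap.toMatrix' (B.comp e) := by
      have h2 : N.map (eval y) = ((LinearMap.toMatrix' A).map C).map (eval y) * T.map (eval y) +
          ((LinearMap.toMatrix' (B.comp e)).map C).map (eval y) := by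
        rw [← Matrix.map_mul, ← Matrix.map_add _ (map_add _)]
      rw [h2]
      congr 1
      · congr 1
        ext i j
        simp
      · ext i j
        simp
    rw [at'_apply, h1, Matrix.add_mulVec, ← Matrix.mulVec_mulVec, at'_apply]
    congr 1
    · rw [← Matrix.toLin'_apply, Matrix.toLin'_toMatrix']
    · rw [← Matrix.toLin'_apply, Matrix.toLin'_toMatrix']; rfl
  have hdet : ∀ y, eval y N.det = (N.map (eval y)).det := fun y => RingHom.map_det _ _
  have hC : ∀ v, v ∈ C₀ → v ∈ K₀ → v = 0 := by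
    intro v h1 h2
    have h3 : v ∈ K₀ ⊓ C₀ := ⟨h2, h1⟩
    rw [hC₀.inf_eq_bot] at h3
    exact h3
  refine ⟨K₀, B, N, hker y₀ h0, hB1, hB2, ?_, ?_⟩
  · rw [hdet]
    intro h
    obtain ⟨v, hv, hv0⟩ := Matrix.exists_mulVec_eq_zero_iff.mpr h
    have h1 : at' N y₀ v = 0 := by rw [at'_apply]; exact hv0
    rw [hN] at h1
    have h2 : A (at' T y₀ v) = 0 := by
      refine hC _ (hA1 _) ?_
      rw [eq_neg_of_add_eq_zero_left h1]
      exact K₀.neg_mem (hB1 _)
    have h3 : v ∈ K₀ := by
      obtain ⟨a, ha, b, hb, hab⟩ := Submodule.mem_sup.mp (hC₀.sup_eq_top.symm ▸ Submodule.mem_top : v ∈ K₀ ⊔ C₀)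
      have h4 : at' T y₀ v = at' T y₀ b := by
        rw [← hab, map_add, show at' T y₀ a = 0 from ha, zero_add]
      have h5 : b = 0 := by
        rw [← hA2 b hb, ← h4, h2]
      rw [← hab, h5, add_zero]
      exact ha
    rw [h2, zero_add, hB2 v h3] at h1
    exact hv h1
  · intro y hy hyδ
    have hbij : Function.Injective (at' N y) := by
      rw [← LinearMap.ker_eq_bot, LinearMap.ker_eq_bot']
      intro v hv
      by_contra hv0
      rw [hdet] at hyδ
      refine hyδ (Matrix.exists_mulVec_eq_zero_iff.mp ⟨v, hv0, ?_⟩)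
      rw [← at'_apply]; exact hv
    have hbij' : Function.Surjective (at' N y) := LinearMap.surjective_of_injective hbij
    have h1 : LinearMap.ker (at' T y) ≤ K₀.comap (at' N y) := by
      intro v hv
      rw [Submodule.mem_comap, hN, show at' T y v = 0 from hv, map_zero, zero_add]
      exact hB1 _
    have h2 : Module.finrank k (K₀.comap (at' N y)) = κ := by
      rw [← hker y₀ h0]
      let E := LinearEquiv.ofBijective (at' N y) ⟨hbij, hbij'⟩
      have h3 : K₀.comap (at' N y) = K₀.comap (E : (D → k) →ₗ[k] (D → k)) := rfl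
      rw [h3]
      exact LinearEquiv.finrank_eq (E.submoduleMap _ |>.trans (LinearEquiv.ofEq _ _
        (Submodule.map_comap_eq_of_surjective E.surjective K₀)))
    have h3 : LinearMap.ker (at' T y) = K₀.comap (at' N y) :=
      Submodule.eq_of_le_of_finrank_eq h1 (by rw [h2, hker y hy])
    intro v
    refine ⟨?_, fun hv => ?_⟩
    · change v ∈ LinearMap.ker (at' T y) ↔ _
      rw [h3]; rfl
    · rw [hN, hv, map_zero, zero_add]

/-- The image of the kernel. -/
noncomputable def V (y : Fin n → k) : Submodule k W := (LinearMap.ker (at' T y)).map e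

theorem mem_V {y : Fin n → k} {w : W} : w ∈ V T e y ↔ ∃ v, at' T y v = 0 ∧ e v = w := by
  simp [V]

theorem at'_adj (N : Matrix D D (MvPolynomial (Fin n) k)) (y : Fin n → k) (z : D → k) :
    at' N y (at' N.adjugate y z) = eval y N.det • z := by
  have h1 : N.adjugate.map (eval y) = (N.map (eval y)).adjugate := (RingHom.map_adjugate _ _)
  rw [at'_apply, at'_apply, h1, Matrix.mulVec_mulVec, Matrix.mul_adjugate, Matrix.smul_mulVec, Matrix.one_mulVec]
  congr 1
  exact (RingHom.map_det _ _).symm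

theorem adj_at' (N : Matrix D D (MvPolynomial (Fin n) k)) (y : Fin n → k) (z : D → k) :
    at' N.adjugate y (at' N y z) = eval y N.det • z := by
  have h1 : N.adjugate.map (eval y) = (N.map (eval y)).adjugate := (RingHom.map_adjugate _ _)
  rw [at'_apply, at'_apply, h1, Matrix.mulVec_mulVec, Matrix.adjugate_mul, Matrix.smul_mulVec, Matrix.one_mulVec]
  congr 1
  exact (RingHom.map_det _ _).symm

theorem exists_poly_at' (φ : (D → k) →ₗ[k] k) (M : Matrix D D (MvPolynomial (Fin n) k)) (z : D → k) :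
    ∃ p : MvPolynomial (Fin n) k, ∀ y, eval y p = φ (at' M y z) := by
  obtain ⟨p, hp⟩ := exists_poly_lin (n := n) φ (M.mulVec fun d => C (z d))
  refine ⟨p, fun y => ?_⟩
  rw [hp, at'_apply]
  congr 1
  funext d
  rw [K790.Hart.map_mulVec_eval]
  simp

variable {T e}

section Local

variable {K₀ : Submodule k (D → k)} {B : W →ₗ[k] (D → k)} {N : Matrix D D (MvPolynomial (Fin n) k)}
  (hB1 : ∀ w, B w ∈ K₀) (hB2 : ∀ v ∈ K₀, B (e v) = v) {y : Fin n → k} (hδ : eval y N.det ≠ 0)
  (hN : ∀ v, (at' T y v = 0 ↔ at' N y v ∈ K₀) ∧ (at' T y v = 0 → at' N y v = B (e v)))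

include hN in
theorem adj_mem_ker {z : D → k} (hz : z ∈ K₀) : at' T y (at' N.adjugate y z) = 0 := by
  rw [(hN _).1, at'_adj]
  exact K₀.smul_mem _ hz

include hB1 hδ hN in
theorem mem_V_iff (w : W) : w ∈ V T e y ↔ e (at' N.adjugate y (B w)) - eval y N.det • w = 0 := by
  rw [mem_V]
  constructor
  · rintro ⟨v, hv, rfl⟩
    rw [← (hN v).2 hv, adj_at', map_smul, sub_self]
  · intro h
    refine ⟨(eval y N.det)⁻¹ • at' N.adjugate y (B w), ?_, ?_⟩
    · rw [map_smul, adj_mem_ker hN (hB1 w), smul_zero]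
    · rw [map_smul, sub_eq_zero.mp h, smul_smul, inv_mul_cancel₀ hδ, one_smul]

include hB1 hN in
theorem B_F (w : W) : B (e (at' N.adjugate y (B w)) - eval y N.det • w) = 0 := by
  rw [map_sub, map_smul, ← (hN _).2 (adj_mem_ker hN (hB1 w)), at'_adj, sub_self]

include hδ hN in
theorem van_iff (lam : W →ₗ[k] k) {c : ℕ} (z : Fin c → D → k) (hz : Submodule.span k (Set.range z) = K₀) :
    (∀ v, at' T y v = 0 → lam (e v) = 0) ↔ ∀ l, lam (e (at' N.adjugate y (z l))) = 0 := by
  constructor
  · intro h l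
    exact h _ (adj_mem_ker hN (hz ▸ Submodule.subset_span ⟨l, rfl⟩))
  · intro h v hv
    have h1 := (hN v).1.mp hv
    rw [← hz] at h1
    have h2 : ∀ u ∈ Submodule.span k (Set.range z), lam (e (at' N.adjugate y u)) = 0 := by
      intro u hu
      induction hu using Submodule.span_induction with
      | mem x hx => obtain ⟨l, rfl⟩ := hx; exact h l
      | zero => simp
      | add a b _ _ ha hb => rw [map_add, map_add, map_add, ha, hb, add_zero]
      | smul c a _ ha => rw [map_smul, map_smul, map_smul, ha, smul_zero]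
    have h3 := h2 _ h1
    rw [adj_at', map_smul, map_smul, smul_eq_mul] at h3
    exact (mul_eq_zero.mp h3).resolve_left hδ

end Local

variable (hker : ∀ y : Fin n → k, y ≠ 0 → Module.finrank k (LinearMap.ker (at' T y)) = κ)
  (hinj : ∀ y : Fin n → k, y ≠ 0 → ∀ v, at' T y v = 0 → e v = 0 → v = 0)
  (hsc : ∀ y : Fin n → k, y ≠ 0 → ∀ a : k, a ≠ 0 → V T e (a • y) = V T e y)

open K790.Cut

include hker hinj hsc in
theorem isCut_mem (w : W) : IsCut {y : Fin n → k | y ≠ 0 ∧ w ∈ V T e y} (Module.finrank k W - κ) where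
  ne y hy := hy.1
  smul y hy a ha := ⟨smul_ne_zero ha hy.1, by rw [hsc y hy.1 a ha]; exact hy.2⟩
  closed y hy hyZ := by
    obtain ⟨K₀, B, N, -, hB1, hB2, hδ, hN⟩ := exists_local T e y hy hker hinj
    have h1 : ¬ w ∈ V T e y := fun h => hyZ ⟨hy, h⟩
    rw [mem_V_iff hB1 hδ (hN y hy hδ)] at h1
    obtain ⟨φ, hφ⟩ : ∃ φ : W →ₗ[k] k, φ (e (at' N.adjugate y (B w)) - eval y N.det • w) ≠ 0 := by
      by_contra hcon
      push Not at hcon
      exact h1 ((Module.forall_dual_apply_eq_zero_iff k _).mp hcon)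
    obtain ⟨p, hp⟩ := exists_poly_at' (φ.comp e) N.adjugate (B w)
    refine ⟨N.det * (p - N.det * C (φ w)), ?_, ?_⟩
    · rw [map_mul]
      refine mul_ne_zero hδ ?_
      rw [map_sub, map_mul, eval_C, hp]
      rw [map_sub, map_smul, smul_eq_mul] at hφ
      exact hφ
    · intro z hz
      rw [map_mul]
      by_cases hzδ : eval z N.det = 0
      · rw [hzδ, zero_mul]
      · have h2 := (mem_V_iff hB1 hzδ (hN z hz.1 hzδ) w).mp hz.2
        have h3 := congrArg φ h2
        rw [map_sub, map_smul, smul_eq_mul, map_zero] at h3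
        rw [map_sub, map_mul, eval_C, hp]
        rw [LinearMap.comp_apply, h3, mul_zero]
  eqs y₀ hy₀ := by
    obtain ⟨K₀, B, N, hK, hB1, hB2, hδ, hN⟩ := exists_local T e y₀ hy₀.1 hker hinj
    have hrange : LinearMap.range B = K₀ := by
      apply le_antisymm
      · rintro _ ⟨w, rfl⟩; exact hB1 w
      · intro v hv; exact ⟨e v, hB2 v hv⟩
    have hkB : Module.finrank k (LinearMap.ker B) = Module.finrank k W - κ := by
      have := LinearMap.finrank_range_add_finrank_ker B
      rw [hrange, hK] at this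
      omega
    obtain ⟨σ, hσ⟩ := LinearMap.exists_leftInverse_of_injective (LinearMap.ker B).subtype
      (Submodule.ker_subtype _)
    let E := Module.finBasisOfFinrankEq k (LinearMap.ker B) hkB
    let ψ : W →ₗ[k] (Fin (Module.finrank k W - κ) → k) := (E.equivFun : _ →ₗ[k] _).comp σ
    have hψ : ∀ x, B x = 0 → ψ x = 0 → x = 0 := by
      intro x hx hx0
      have h1 : σ x = 0 := by
        apply E.equivFun.injective
        rw [map_zero]; exact hx0
      have h2 : σ x = ⟨x, hx⟩ := LinearMap.congr_fun hσ ⟨x, hx⟩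
      rw [h2] at h1
      exact congrArg Subtype.val h1
    choose p hp using fun i => exists_poly_at' (n := n) (((LinearMap.proj i).comp ψ).comp e) N.adjugate (B w)
    refine ⟨N.det, fun i => p i - N.det * C (ψ w i), hδ, fun y hy hyδ => ?_⟩
    have h1 := mem_V_iff hB1 hyδ (hN y hy hyδ) w
    have h2 : (∀ i, eval y (p i - N.det * C (ψ w i)) = 0) ↔
        ψ (e (at' N.adjugate y (B w)) - eval y N.det • w) = 0 := by
      rw [funext_iff]
      refine forall_congr' fun i => ?_
      rw [map_sub, map_mul, eval_C, hp, map_sub, map_smul]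
      rfl
    rw [h2]
    constructor
    · intro h
      rw [h1.mp h.2, map_zero]
    · intro h
      exact ⟨hy, h1.mpr (hψ _ (B_F hB1 (hN y hy hyδ) w) h)⟩

include hker hinj hsc in
theorem isCut_van (lam : W →ₗ[k] k) :
    IsCut {y : Fin n → k | y ≠ 0 ∧ ∀ v, at' T y v = 0 → lam (e v) = 0} κ where
  ne y hy := hy.1
  smul y hy a ha := ⟨smul_ne_zero ha hy.1, by
    intro v hv
    have h1 : e v ∈ V T e (a • y) := (mem_V T e).mpr ⟨v, hv, rfl⟩
    rw [hsc y hy.1 a ha] at h1
    obtain ⟨v', h2, h3⟩ := (mem_V T e).mp h1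
    rw [← h3]
    exact hy.2 v' h2⟩
  closed y hy hyZ := by
    obtain ⟨K₀, B, N, hK, hB1, hB2, hδ, hN⟩ := exists_local T e y hy hker hinj
    let E := Module.finBasisOfFinrankEq k K₀ hK
    have hE : Submodule.span k (Set.range fun l => (E l : D → k)) = K₀ := by
      have h1 : Set.range (fun l => (E l : D → k)) = K₀.subtype '' Set.range E := by
        rw [← Set.range_comp]; rfl
      rw [h1, Submodule.span_image, E.span_eq, Submodule.map_top, Submodule.range_subtype]
    have h1 : ¬ ∀ v, at' T y v = 0 → lam (e v) = 0 := fun h => hyZ ⟨hy, h⟩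
    rw [van_iff hδ (hN y hy hδ) lam _ hE] at h1
    push Not at h1
    obtain ⟨l, hl⟩ := h1
    obtain ⟨p, hp⟩ := exists_poly_at' (lam.comp e) N.adjugate (E l : D → k)
    refine ⟨N.det * p, ?_, ?_⟩
    · rw [map_mul, hp]
      exact mul_ne_zero hδ hl
    · intro z hz
      rw [map_mul, hp]
      by_cases hzδ : eval z N.det = 0
      · rw [hzδ, zero_mul]
      · have h2 := (van_iff hzδ (hN z hz.1 hzδ) lam _ hE).mp hz.2 l
        rw [LinearMap.comp_apply, h2, mul_zero]
  eqs y₀ hy₀ := by
    obtain ⟨K₀, B, N, hK, hB1, hB2, hδ, hN⟩ := exists_local T e y₀ hy₀.1 hker hinj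
    let E := Module.finBasisOfFinrankEq k K₀ hK
    have hE : Submodule.span k (Set.range fun l => (E l : D → k)) = K₀ := by
      have h1 : Set.range (fun l => (E l : D → k)) = K₀.subtype '' Set.range E := by
        rw [← Set.range_comp]; rfl
      rw [h1, Submodule.span_image, E.span_eq, Submodule.map_top, Submodule.range_subtype]
    choose p hp using fun l => exists_poly_at' (n := n) (lam.comp e) N.adjugate (E l : D → k)
    refine ⟨N.det, p, hδ, fun y hy hyδ => ?_⟩
    have h1 := van_iff hyδ (hN y hy hyδ) lam _ hE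
    constructor
    · intro h i
      rw [hp]
      exact h1.mp h.2 i
    · intro h
      refine ⟨hy, h1.mpr fun l => ?_⟩
      have := h l
      rw [hp] at this
      exact this

include hker hinj hsc in
/-- Constancy. -/
theorem V_const [IsAlgClosed k] (hW : Module.finrank k W < n) (hκ : κ ≤ Module.finrank k W) (y y' : Fin n → k)
    (hy : y ≠ 0) (hy' : y' ≠ 0) : V T e y = V T e y' := by
  have hle : ∀ y y' : Fin n → k, y ≠ 0 → y' ≠ 0 → V T e y ≤ V T e y' := by
    intro y y' hy hy' w hw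
    by_contra hw'
    obtain ⟨lam, h1, h2⟩ := Submodule.exists_le_ker_of_notMem hw'
    have c1 := isCut_mem hker hinj hsc w
    have c2 := isCut_van hker hinj hsc lam
    obtain ⟨z, ⟨hz, hzw⟩, -, hzl⟩ := c1.inter c2 (by omega) ⟨y, hy, hw⟩
      ⟨y', hy', fun v hv => h2 ((mem_V T e).mpr ⟨v, hv, rfl⟩)⟩
    obtain ⟨v, hv, rfl⟩ := (mem_V T e).mp hzw
    exact h1 (hzl v hv)
  exact le_antisymm (hle y y' hy hy') (hle y' y hy' hy)

end K790.Const
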