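import Mathlib.RingTheory.Nullstellensatz
import Mathlib.RingTheory.Polynomial.UniqueFactorization
import Mathlib.Algebra.MvPolynomial.Funext
import Mathlib.RingTheory.MvPolynomial.Basic
import Mathlib.Algebra.MvPolynomial.Division
import Mathlib.Algebra.GCDMonoid.Nat
import Mathlib.RingTheory.UniqueFactorizationDomain.GCDMonoid
import Mathlib.RingTheory.MvPolynomial.Homogeneous
import Mathlib.LinearAlgebra.Matrix.Adjugate
import Mathlib.LinearAlgebra.Matrix.NonsingularInverse
import Mathlib.LinearAlgebra.Matrix.ToLin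

/-!
# Regular functions on `k^n ∖ 0` are polynomials, `n ≥ 2`, and solutions of linear systems
-/

set_option autoImplicit false

open MvPolynomial

namespace K790.Hart

variable {k : Type*} [Field k] {n : ℕ}

/-- Polynomials which agree outside the origin are equal. -/
theorem eq_of_eval [Infinite k] (hn : 1 ≤ n) {p q : MvPolynomial (Fin n) k}
    (h : ∀ y : Fin n → k, y ≠ 0 → eval y p = eval y q) : p = q := by
  have h1 : X (⟨0, by omega⟩ : Fin n) * p = X (⟨0, by omega⟩ : Fin n) * q := by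
    refine MvPolynomial.funext fun y => ?_
    rw [map_mul, map_mul, eval_X]
    by_cases hy : y = 0
    · subst hy; simp
    · rw [h y hy]
  exact mul_left_cancel₀ (X_ne_zero _) h1

/-- A non-unit in two or more variables has a zero other than the origin. -/
theorem exists_zero [IsAlgClosed k] (hn : 2 ≤ n) {f : MvPolynomial (Fin n) k} (hf : ¬ IsUnit f) :
    ∃ y : Fin n → k, y ≠ 0 ∧ eval y f = 0 := by
  by_contra hcon
  push Not at hcon
  have key : ∀ i : Fin n, ∃ N : ℕ, f ∣ X i ^ N := by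
    intro i
    have h1 : (X i : MvPolynomial (Fin n) k) ∈ vanishingIdeal k (zeroLocus k (Ideal.span {f})) := by
      rw [mem_vanishingIdeal_iff]
      intro y hy
      have h2 : eval y f = 0 := by
        have := hy f (Ideal.subset_span rfl)
        rwa [aeval_eq_eval] at this
      have h3 : y = 0 := by
        by_contra h4
        exact hcon y h4 h2
      simp [h3]
    rw [vanishingIdeal_zeroLocus_eq_radical] at h1
    obtain ⟨N, hN⟩ := h1
    exact ⟨N, Ideal.mem_span_singleton.mp hN⟩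
  obtain ⟨N, hN⟩ := key ⟨0, by omega⟩
  obtain ⟨M, hM⟩ := key ⟨1, by omega⟩
  have h2 : IsRelPrime (X (⟨0, by omega⟩ : Fin n) : MvPolynomial (Fin n) k) (X ⟨1, by omega⟩) := by
    refine (Prime.irreducible (X_prime (R := k))).isRelPrime_iff_not_dvd.mpr fun hd => ?_
    have := (X_dvd_X (R := k)).mp hd
    simp at this
  exact hf (h2.pow (m := N) (n := M) hN hM)

/-- Hartogs: a function on `k^n ∖ 0` which is locally a fraction is a polynomial. -/
theorem hartogs [IsAlgClosed k] (hn : 2 ≤ n) (g : (Fin n → k) → k)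
    (h : ∀ y₀ : Fin n → k, y₀ ≠ 0 → ∃ δ a : MvPolynomial (Fin n) k, eval y₀ δ ≠ 0 ∧
      ∀ y : Fin n → k, y ≠ 0 → eval y δ * g y = eval y a) :
    ∃ G : MvPolynomial (Fin n) k, ∀ y : Fin n → k, y ≠ 0 → g y = eval y G := by
  classical
  let e : Fin n → k := fun _ => 1
  have he : e ≠ 0 := by
    intro h0
    have := congrFun h0 ⟨0, by omega⟩
    simp [e] at this
  obtain ⟨δ, a, hδ, ha⟩ := h e he
  have hδ0 : δ ≠ 0 := by rintro rfl; simp at hδ
  -- lowest terms
  letI : NormalizedGCDMonoid (MvPolynomial (Fin n) k) :=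
    Classical.choice inferInstance
  obtain ⟨δ', a', hrel, hd1, hd2⟩ : ∃ δ' a', IsRelPrime δ' a' ∧ δ = gcd δ a * δ' ∧ a = gcd δ a * a' := by
    obtain ⟨x, hx⟩ := gcd_dvd_left δ a
    obtain ⟨y, hy⟩ := gcd_dvd_right δ a
    refine ⟨x, y, ?_, hx, hy⟩
    have hg : gcd δ a ≠ 0 := by
      intro h0
      exact hδ0 ((gcd_eq_zero_iff _ _).mp h0).1
    have := isUnit_gcd_of_eq_mul_gcd (x := δ) (y := a) (x' := x) (y' := y) hx hy hg
    rwa [gcd_isUnit_iff_isRelPrime] at this
  have hg : gcd δ a ≠ 0 := fun h0 => hδ0 ((gcd_eq_zero_iff _ _).mp h0).1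
  have key : ∀ (y₀ : Fin n → k), y₀ ≠ 0 → ∀ δ₂ a₂ : MvPolynomial (Fin n) k,
      (∀ y : Fin n → k, y ≠ 0 → eval y δ₂ * g y = eval y a₂) → δ' ∣ δ₂ ∧ δ' * a₂ = δ₂ * a' := by
    intro y₀ hy₀ δ₂ a₂ h₂
    have h1 : δ * a₂ = δ₂ * a := by
      refine eq_of_eval (by omega) fun y hy => ?_
      rw [map_mul, map_mul, ← h₂ y hy, ← ha y hy]
      ring
    have h2 : gcd δ a * (δ' * a₂) = gcd δ a * (δ₂ * a') := by
      have e1 : gcd δ a * (δ' * a₂) = (gcd δ a * δ') * a₂ := by ring
      have e2 : gcd δ a * (δ₂ * a') = δ₂ * (gcd δ a * a') := by ring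
      rw [e1, e2, ← hd1, ← hd2, h1]
    have h3 := mul_left_cancel₀ hg h2
    exact ⟨hrel.dvd_of_dvd_mul_right (h3 ▸ Dvd.intro a₂ rfl), h3⟩
  have hunit : IsUnit δ' := by
    by_contra hu
    obtain ⟨y, hy, hy0⟩ := exists_zero hn hu
    obtain ⟨δ₂, a₂, h1, h2⟩ := h y hy
    obtain ⟨c, hc⟩ := (key y hy δ₂ a₂ h2).1
    rw [hc, map_mul, hy0, zero_mul] at h1
    exact h1 rfl
  obtain ⟨u, hu⟩ := hunit
  refine ⟨↑u⁻¹ * a', fun y hy => ?_⟩
  obtain ⟨δ₂, a₂, h1, h2⟩ := h y hy
  have h3 := (key y hy δ₂ a₂ h2).2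
  have h4 : a₂ = δ₂ * (↑u⁻¹ * a') := by
    have : δ' * a₂ = δ' * (δ₂ * (↑u⁻¹ * a')) := by
      rw [h3, ← hu]
      calc δ₂ * a' = (↑u * ↑u⁻¹) * (δ₂ * a') := by rw [Units.mul_inv, one_mul]
        _ = _ := by ring
    refine mul_left_cancel₀ ?_ this
    rw [← hu]; exact u.ne_zero
  have h5 := h2 y hy
  rw [h4, map_mul] at h5
  exact mul_left_cancel₀ h1 h5

section Lin

variable {D P : Type*} [Fintype D] [Fintype P] [DecidableEq D] [DecidableEq P]

theorem map_mulVec_eval (N : Matrix P D (MvPolynomial (Fin n) k)) (g : D → MvPolynomial (Fin n) k) (y : Fin n → k)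
    (i : P) : eval y (N.mulVec g i) = (N.map (eval y)).mulVec (fun d => eval y (g d)) i := by
  simp [Matrix.mulVec, dotProduct]

/-- A linear system with polynomial coefficients which is uniquely solvable outside the origin has a polynomial
solution. -/
theorem exists_poly_solution [IsAlgClosed k] (hn : 2 ≤ n) (N : Matrix P D (MvPolynomial (Fin n) k))
    (b : P → MvPolynomial (Fin n) k)
    (hinj : ∀ y : Fin n → k, y ≠ 0 → Function.Injective (N.map (eval y)).mulVec)
    (hex : ∀ y : Fin n → k, y ≠ 0 → ∃ v : D → k, (N.map (eval y)).mulVec v = fun i => eval y (b i)) :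
    ∃ g : D → MvPolynomial (Fin n) k, N.mulVec g = b := by
  classical
  have hv : ∀ y : Fin n → k, ∃ v : D → k, y ≠ 0 → (N.map (eval y)).mulVec v = fun i => eval y (b i) := by
    intro y
    by_cases hy : y = 0
    · exact ⟨0, fun h => absurd hy h⟩
    · obtain ⟨v, h⟩ := hex y hy
      exact ⟨v, fun _ => h⟩
  choose v hv using hv
  have hG : ∀ d : D, ∃ G : MvPolynomial (Fin n) k, ∀ y : Fin n → k, y ≠ 0 → v y d = eval y G := by
    intro d
    refine hartogs hn _ fun y₀ hy₀ => ?_
    obtain ⟨S, hS⟩ : ∃ S : Matrix D P k, S * N.map (eval y₀) = 1 := by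
      obtain ⟨σ, hσ⟩ := LinearMap.exists_leftInverse_of_injective (Matrix.toLin' (N.map (eval y₀)))
        (LinearMap.ker_eq_bot.mpr (by
          intro x x' h
          exact hinj y₀ hy₀ (by simpa [Matrix.toLin'_apply] using h)))
      refine ⟨LinearMap.toMatrix' σ, ?_⟩
      have h1 := congrArg LinearMap.toMatrix' hσ
      rwa [LinearMap.toMatrix'_comp, LinearMap.toMatrix'_toLin', LinearMap.toMatrix'_id] at h1
    let SN : Matrix D D (MvPolynomial (Fin n) k) := S.map C * N
    have hSN : ∀ y, SN.map (eval y) = S * N.map (eval y) := by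
      intro y
      have h1 : SN.map (eval y) = (S.map C).map (eval y) * N.map (eval y) := by
        exact Matrix.map_mul
      rw [h1]
      congr 1
      ext i j
      simp
    refine ⟨SN.det, (SN.adjugate.mulVec ((S.map C).mulVec b)) d, ?_, ?_⟩
    · have h1 : eval y₀ SN.det = (SN.map (eval y₀)).det := (RingHom.map_det _ _)
      rw [h1, hSN, hS, Matrix.det_one]
      exact one_ne_zero
    · intro y hy
      have h1 : eval y SN.det = (SN.map (eval y)).det := (RingHom.map_det _ _)
      have h2 : (SN.map (eval y)).mulVec (v y) = S.mulVec (fun i => eval y (b i)) := by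
        rw [hSN, ← Matrix.mulVec_mulVec, hv y hy]
      have h3 : (SN.adjugate).map (eval y) = (SN.map (eval y)).adjugate := (RingHom.map_adjugate _ _)
      rw [map_mulVec_eval, h3]
      have h4 : (fun d => eval y ((S.map C).mulVec b d)) = S.mulVec (fun i => eval y (b i)) := by
        funext j
        rw [map_mulVec_eval]
        congr 1
        congr 1
        ext i j
        simp
      rw [h4, ← h2, Matrix.mulVec_mulVec, Matrix.adjugate_mul, Matrix.smul_mulVec, Matrix.one_mulVec, h1]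
      rfl
  choose G hG using hG
  refine ⟨G, ?_⟩
  funext i
  refine eq_of_eval (by omega) fun y hy => ?_
  rw [map_mulVec_eval]
  have h1 : (fun d => eval y (G d)) = v y := by
    funext d
    rw [hG d y hy]
  rw [h1, hv y hy]

end Lin

end K790.Hart
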