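import Groth.Agent.Variety.K836.ProjInter
import Groth.Agent.Synt.K562.FieldDim
import Groth.Agent.VBPn.K790.Hart

/-!
# Cones in `k^N` locally cut out by few equations meet outside the origin
-/

set_option autoImplicit false

universe u

open MvPolynomial

namespace K790.Cut

variable {k : Type u} [Field k] {m : ℕ}

attribute [local instance] K836.ProjInter.instOverASpecOf
  K836.ProjInter.instLocallyOfFiniteTypeOverSchemeASpecOfInferInstanceOverClass

open AlgebraicGeometry in
/-- Two homogeneous primes of small heights have a common zero other than the origin. -/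
theorem exists_common [IsAlgClosed k] (p q : Ideal (MvPolynomial (Fin (m + 1)) k)) [hp : p.IsPrime] [hq : q.IsPrime]
    (hpi : p ≤ K657.HilbDim.irr k (Fin (m + 1))) (hqi : q ≤ K657.HilbDim.irr k (Fin (m + 1))) {a b : ℕ}
    (hpa : p.height ≤ a) (hqb : q.height ≤ b) (hab : a + b < m + 1) :
    ∃ y : Fin (m + 1) → k, y ≠ 0 ∧ (∀ f ∈ p, eval y f = 0) ∧ ∀ f ∈ q, eval y f = 0 := by
  by_contra hcon
  push Not at hcon
  let x : K836.ProjInter.A k m := (⟨p, hp⟩ : PrimeSpectrum _)
  let z : K836.ProjInter.A k m := (⟨q, hq⟩ : PrimeSpectrum _)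
  have hx : x ⤳ K836.ProjInter.vtx k m := (K836.ProjInter.specializes_iff _ _).mpr hpi
  have hz : z ⤳ K836.ProjInter.vtx k m := (K836.ProjInter.specializes_iff _ _).mpr hqi
  have hmax : ∀ w : K836.ProjInter.A k m, x ⤳ w → z ⤳ w → w ⤳ K836.ProjInter.vtx k m →
      w = K836.ProjInter.vtx k m := by
    intro w hxw hzw hwv
    rw [K836.ProjInter.specializes_iff] at hxw hzw hwv
    have h1 : (K836.ProjInter.pr w).IsPrime := inferInstance
    have h2 : vanishingIdeal k (zeroLocus k (K836.ProjInter.pr w)) = K836.ProjInter.pr w :=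
      IsPrime.vanishingIdeal_zeroLocus _
    have h3 : K657.HilbDim.irr k (Fin (m + 1)) ≤ K836.ProjInter.pr w := by
      intro f hf
      rw [← h2, mem_vanishingIdeal_iff]
      intro y hy
      rw [aeval_eq_eval]
      have hy0 : y = 0 := by
        by_contra hy0
        obtain ⟨g, hg, hgy⟩ := hcon y hy0 (fun g hg => by
          have := hy g (hxw hg)
          rwa [aeval_eq_eval] at this)
        refine hgy ?_
        have := hy g (hzw hg)
        rwa [aeval_eq_eval] at this
      rw [K657.HilbDim.mem_irr] at hf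
      rw [hy0, eval_zero]
      exact hf
    exact PrimeSpectrum.ext (le_antisymm hwv h3)
  have h1 := K836.InterDim.trd_add_trd_le k (K836.InterDim.isCoord_mvPolynomial k (m + 1) rfl) hx hz hmax
  rw [K836.ProjInter.trd_vtx] at h1
  obtain ⟨h, d, e1, e2, e3⟩ := K562.FieldDim.exists_nat_mv k p
  obtain ⟨h', d', e1', e2', e3'⟩ := K562.FieldDim.exists_nat_mv k q
  have f1 : Groth.Agent.VarietyB.DimSch.trd k (K836.ProjInter.A k m) x = d := by
    have := K836.ProjInter.trd_eq x
    rw [show K836.ProjInter.pr x = p from rfl, e2] at this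
    exact_mod_cast this
  have f2 : Groth.Agent.VarietyB.DimSch.trd k (K836.ProjInter.A k m) z = d' := by
    have := K836.ProjInter.trd_eq z
    rw [show K836.ProjInter.pr z = q from rfl, e2'] at this
    exact_mod_cast this
  rw [f1, f2] at h1
  rw [e1] at hpa
  rw [e1'] at hqb
  have g1 : h ≤ a := by exact_mod_cast hpa
  have g2 : h' ≤ b := by exact_mod_cast hqb
  omega

section Cones

attribute [local instance] MvPolynomial.gradedAlgebra

variable {n : ℕ}

/-- A cone in `k^n ∖ 0`, closed, and locally cut out by `c` equations. -/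
structure IsCut (Z : Set (Fin n → k)) (c : ℕ) : Prop where
  ne : ∀ y ∈ Z, y ≠ 0
  smul : ∀ y ∈ Z, ∀ a : k, a ≠ 0 → a • y ∈ Z
  closed : ∀ y, y ≠ 0 → y ∉ Z → ∃ g : MvPolynomial (Fin n) k, eval y g ≠ 0 ∧ ∀ z ∈ Z, eval z g = 0
  eqs : ∀ y₀ ∈ Z, ∃ (δ : MvPolynomial (Fin n) k) (F : Fin c → MvPolynomial (Fin n) k), eval y₀ δ ≠ 0 ∧
    ∀ y, y ≠ 0 → eval y δ ≠ 0 → (y ∈ Z ↔ ∀ i, eval y (F i) = 0)

theorem eval_smul_hom {f : MvPolynomial (Fin n) k} {d : ℕ} (hf : f.IsHomogeneous d) (a : k) (y : Fin n → k) :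
    eval (a • y) f = a ^ d * eval y f := by
  rw [eval_eq, eval_eq, Finset.mul_sum]
  refine Finset.sum_congr rfl fun m hm => ?_
  have h1 : (∑ i ∈ m.support, m i) = d := by
    have h2 := hf (mem_support_iff.mp hm)
    rw [← h2, Finsupp.weight_apply, Finsupp.sum]
    exact Finset.sum_congr rfl fun i _ => by simp
  simp only [Pi.smul_apply, smul_eq_mul, mul_pow]
  rw [Finset.prod_mul_distrib, Finset.prod_pow_eq_pow_sum, h1]
  ring

theorem eval_smul_component (f : MvPolynomial (Fin n) k) (a : k) (y : Fin n → k) :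
    eval (a • y) f = ∑ i ∈ Finset.range (f.totalDegree + 1), a ^ i * eval y (homogeneousComponent i f) := by
  conv_lhs => rw [← sum_homogeneousComponent f]
  rw [map_sum]
  refine Finset.sum_congr rfl fun i _ => ?_
  exact eval_smul_hom (homogeneousComponent_isHomogeneous i f) a y

theorem isHomogeneous_vanishingIdeal [Infinite k] {Z : Set (Fin n → k)}
    (hZ : ∀ y ∈ Z, ∀ a : k, a ≠ 0 → a • y ∈ Z) :
    (vanishingIdeal k Z : Ideal (MvPolynomial (Fin n) k)).IsHomogeneous (homogeneousSubmodule (Fin n) k) := by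
  intro i f hf
  change ((DirectSum.decompose (homogeneousSubmodule (Fin n) k) f i : MvPolynomial (Fin n) k)) ∈ _
  have h0 : (DirectSum.decompose (homogeneousSubmodule (Fin n) k) f i : MvPolynomial (Fin n) k) =
      homogeneousComponent i f := decomposition.decompose'_apply f i
  rw [h0, mem_vanishingIdeal_iff]
  intro y hy
  rw [aeval_eq_eval]
  let q : Polynomial k := ∑ i ∈ Finset.range (f.totalDegree + 1),
    Polynomial.monomial i (eval y (homogeneousComponent i f))
  have hq : q = 0 := by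
    refine Polynomial.eq_zero_of_infinite_isRoot q ?_
    refine Set.Infinite.mono (s := {0}ᶜ) ?_ (Set.Finite.infinite_compl (Set.finite_singleton (0 : k)))
    intro a ha
    rw [Set.mem_setOf_eq, Polynomial.IsRoot.def]
    have h1 : Polynomial.eval a q = eval (a • y) f := by
      rw [eval_smul_component, Polynomial.eval_finsetSum]
      refine Finset.sum_congr rfl fun i _ => ?_
      rw [Polynomial.eval_monomial, mul_comm]
    rw [h1]
    have h2 := hf (a • y) (hZ y hy a ha)
    rwa [aeval_eq_eval] at h2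
  by_cases hi : i < f.totalDegree + 1
  · have h1 : q.coeff i = eval y (homogeneousComponent i f) := by
      rw [Polynomial.finset_sum_coeff, Finset.sum_eq_single i]
      · rw [Polynomial.coeff_monomial, if_pos rfl]
      · intro j _ hj
        rw [Polynomial.coeff_monomial, if_neg hj]
      · intro h
        exact absurd (Finset.mem_range.mpr hi) h
    rw [← h1, hq, Polynomial.coeff_zero]
  · rw [homogeneousComponent_eq_zero _ _ (by omega), map_zero]

/-- Around a point of such a cone there is a homogeneous prime of height at most `c` whose zeros belong to the cone. -/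
theorem IsCut.exists_prime [IsAlgClosed k] {Z : Set (Fin n → k)} {c : ℕ} (hZ : IsCut Z c) (y₀ : Fin n → k)
    (hy₀ : y₀ ∈ Z) : ∃ p : Ideal (MvPolynomial (Fin n) k), p.IsPrime ∧
      p ≤ K657.HilbDim.irr k (Fin n) ∧ p.height ≤ c ∧
      ∀ y : Fin n → k, y ≠ 0 → (∀ f ∈ p, eval y f = 0) → y ∈ Z := by
  obtain ⟨δ, F, hδ, hF⟩ := hZ.eqs y₀ hy₀
  have hy0 := hZ.ne y₀ hy₀
  obtain ⟨j, hj⟩ : ∃ j, y₀ j ≠ 0 := by
    by_contra h
    push Not at h
    exact hy0 (funext h)
  let M : Ideal (MvPolynomial (Fin n) k) := RingHom.ker (eval y₀)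
  have hM : M.IsPrime := RingHom.ker_isPrime _
  have h1 : Ideal.span (Set.range F) ≤ M := by
    rw [Ideal.span_le]
    rintro _ ⟨i, rfl⟩
    exact ((hF y₀ hy0 hδ).mp hy₀) i
  obtain ⟨Q, hQ, hQM⟩ := Ideal.exists_minimalPrimes_le h1
  have hQp : Q.IsPrime := hQ.1.1
  have hQh : Q.height ≤ c := by
    have h1 := Ideal.height_le_card_of_mem_minimalPrimes_span (Set.finite_range F) hQ
    have h2 : (Set.range F).ncard ≤ c := by
      rw [← Set.image_univ]
      refine (Set.ncard_image_le Set.finite_univ).trans ?_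
      simp [Set.ncard_univ]
    exact h1.trans (by exact_mod_cast h2)
  let I : Ideal (MvPolynomial (Fin n) k) := vanishingIdeal k Z
  have hIQ : I ≤ Q := by
    intro f hf
    have h2 : f * (δ * X j) ∈ Q := by
      rw [← IsPrime.vanishingIdeal_zeroLocus (K := k) Q, mem_vanishingIdeal_iff]
      intro y hy
      rw [aeval_eq_eval, map_mul, map_mul, eval_X]
      by_cases hy' : y = 0
      · simp [hy']
      · by_cases hyδ : eval y δ = 0
        · simp [hyδ]
        · have h3 : y ∈ Z := by
            refine (hF y hy' hyδ).mpr fun i => ?_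
            have := hy (F i) (hQ.1.2 (Ideal.subset_span ⟨i, rfl⟩))
            rwa [aeval_eq_eval] at this
          have h4 := hf y h3
          rw [aeval_eq_eval] at h4
          rw [h4, zero_mul]
    refine (hQp.mem_or_mem h2).resolve_right fun h3 => ?_
    rcases hQp.mem_or_mem h3 with h4 | h4
    · exact hδ (hQM h4)
    · have := hQM h4
      rw [RingHom.mem_ker, eval_X] at this
      exact hj this
  obtain ⟨P, hP, hPQ⟩ := Ideal.exists_minimalPrimes_le hIQ
  have hPp : P.IsPrime := hP.1.1
  have hIhom := isHomogeneous_vanishingIdeal hZ.smul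
  have hPhom : P.IsHomogeneous (homogeneousSubmodule (Fin n) k) := by
    have hcp : (P.homogeneousCore (homogeneousSubmodule (Fin n) k)).toIdeal.IsPrime := hPp.homogeneousCore
    have h2 : I ≤ (P.homogeneousCore (homogeneousSubmodule (Fin n) k)).toIdeal := by
      have h3 : (I.homogeneousCore (homogeneousSubmodule (Fin n) k)).toIdeal = I :=
        hIhom.toIdeal_homogeneousCore_eq_self
      rw [← h3]
      exact Ideal.homogeneousCore_mono _ hP.1.2
    have h4 := hP.2 ⟨hcp, h2⟩ (Ideal.toIdeal_homogeneousCore_le _ _)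
    rw [Ideal.IsHomogeneous.iff_eq]
    exact le_antisymm (Ideal.toIdeal_homogeneousCore_le _ _) h4
  refine ⟨P, hPp, K657.HilbDim.le_irr hPhom hPp.ne_top, (Ideal.height_mono hPQ).trans hQh, fun y hy hyP => ?_⟩
  by_contra hyZ
  obtain ⟨g, hg, hgZ⟩ := hZ.closed y hy hyZ
  refine hg (hyP g (hP.1.2 ?_))
  rw [mem_vanishingIdeal_iff]
  intro z hz
  rw [aeval_eq_eval]
  exact hgZ z hz

/-- Two such cones in `k^n` cut out by `a` and `b` equations with `a + b < n` meet, if they are not empty. -/
theorem IsCut.inter [IsAlgClosed k] {Z Z' : Set (Fin n → k)} {a b : ℕ} (hZ : IsCut Z a) (hZ' : IsCut Z' b)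
    (hab : a + b < n) (h : Z.Nonempty) (h' : Z'.Nonempty) : (Z ∩ Z').Nonempty := by
  obtain ⟨m, rfl⟩ : ∃ m, n = m + 1 := ⟨n - 1, by omega⟩
  obtain ⟨y, hy⟩ := h
  obtain ⟨y', hy'⟩ := h'
  obtain ⟨p, hp, hpi, hph, hpZ⟩ := hZ.exists_prime y hy
  obtain ⟨q, hq, hqi, hqh, hqZ⟩ := hZ'.exists_prime y' hy'
  obtain ⟨z, hz, h1, h2⟩ := exists_common p q hpi hqi hph hqh hab
  exact ⟨z, hpZ z hz h1, hqZ z hz h2⟩

end Cones

end K790.Cut
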