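import Groth.Agent.VBPn.K790.LineSys
import Mathlib.Data.Matrix.ColumnRowPartitioned

/-!
# Sections constructed from the lines through a point (algebraic form)
-/

set_option autoImplicit false

universe u

open MvPolynomial

namespace K790.LineMain

open K790.BinForm K790.Const K790.LineSys

variable {k : Type u} [Field k] {n : ℕ} {ι J : Type} [Fintype ι] [Fintype J] [DecidableEq ι] [DecidableEq J]
  (g : J → MvPolynomial (Fin (n + 1)) k) (q : ι → J → ι → MvPolynomial (Fin (n + 1)) k) (m : ℕ)

/-- Sections along the line in the direction `y`. -/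
def Sol (y : Fin n → k) : Submodule k (J → ι → MvPolynomial (Fin 2) k) where
  carrier := {v | (∀ j a, (v j a).IsHomogeneous m) ∧ IsSol (fun j => ly y (g j)) (fun b j a => ly y (q b j a)) v}
  add_mem' h h' := ⟨fun j a => (h.1 j a).add (h'.1 j a), h.2.add h'.2⟩
  zero_mem' := ⟨fun _ _ => isHomogeneous_zero _ _ _, IsSol.zero⟩
  smul_mem' c v h := ⟨fun j a => (homogeneousSubmodule (Fin 2) k m).smul_mem c (h.1 j a), h.2.smul c⟩

variable (M : ℕ)

/-- The universal system. -/
noncomputable def TT : Matrix (J × J × ι × Fin (M + m + 1)) (J × ι × Fin (m + 1)) (MvPolynomial (Fin n) k) :=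
  LinearMap.toMatrix' (eqn (fun j => LU k n (g j)) (fun b j a => LU k n (q b j a)) m M)

theorem at'_TT (y : Fin n → k) : at' (TT g q m M) y = eqn (fun j => ly y (g j)) (fun b j a => ly y (q b j a)) m M := by
  refine LinearMap.ext fun v => ?_
  funext x
  rw [at'_apply]
  have h1 := K790.Hart.map_mulVec_eval (TT g q m M) (fun d => C (v d)) y x
  simp only [eval_C] at h1
  rw [← h1, TT, ← Matrix.toLin'_apply, Matrix.toLin'_toMatrix', map_eqn]
  simp only [map_LU, eval_C]

variable {g q m M}
variable (hg : ∀ j, (g j).IsHomogeneous M) (hq : ∀ b j a, (q b j a).IsHomogeneous M)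

include hg hq in
theorem mem_ker_iff (y : Fin n → k) (v : J × ι × Fin (m + 1) → k) :
    at' (TT g q m M) y v = 0 ↔ tup m v ∈ Sol g q m y := by
  rw [at'_TT, eqn_eq_zero_iff (fun j => ly_isHomogeneous y (hg j)) (fun b j a => ly_isHomogeneous y (hq b j a))]
  exact ⟨fun h => ⟨fun j a => form_isHomogeneous _ _, h⟩, fun h => h.2⟩

theorem exists_tup {v : J → ι → MvPolynomial (Fin 2) k} (h : ∀ j a, (v j a).IsHomogeneous m) :
    ∃ c : J × ι × Fin (m + 1) → k, tup m c = v := by
  refine ⟨fun x => coeff (mon m x.2.2) (v x.1 x.2.1), ?_⟩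
  funext j a
  exact form_coeff (h j a)

include hg hq in
theorem finrank_ker (y : Fin n → k) :
    Module.finrank k (LinearMap.ker (at' (TT g q m M) y)) = Module.finrank k (Sol g q m y) := by
  have h1 : (LinearMap.ker (at' (TT g q m M) y)).map (tup m) = Sol g q m y := by
    apply le_antisymm
    · rintro _ ⟨v, hv, rfl⟩
      exact (mem_ker_iff hg hq y v).mp hv
    · intro v hv
      obtain ⟨c, rfl⟩ := exists_tup hv.1
      exact ⟨c, (mem_ker_iff hg hq y c).mpr hv, rfl⟩
  rw [← h1]
  exact LinearEquiv.finrank_eq (Submodule.equivMapOfInjective _ (tup_injective m) _)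

/-- The value at the base point. -/
noncomputable def e0 (k : Type u) [Field k] (ι J : Type) (m : ℕ) : (J × ι × Fin (m + 1) → k) →ₗ[k] (J → ι → k) :=
  LinearMap.pi fun j => LinearMap.pi fun a => LinearMap.proj (j, a, 0)

theorem e0_apply (c : J × ι × Fin (m + 1) → k) (j : J) (a : ι) : e0 k ι J m c j a = c (j, a, 0) := rfl

theorem eval_tup (c : J × ι × Fin (m + 1) → k) (j : J) (a : ι) : eval ![1, 0] (tup m c j a) = e0 k ι J m c j a := by
  rw [e0_apply, tup_apply]
  have h1 : eval ![1, 0] (form m fun e => c (j, a, e)) = eval₂ (RingHom.id k) ![1, 0] (form m fun e => c (j, a, e)) := rfl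
  rw [h1, eval₂_form, Finset.sum_eq_single 0]
  · simp
  · intro e _ he
    have h2 : (e : ℕ) ≠ 0 := fun h => he (Fin.ext h)
    simp [h2]
  · intro h; exact absurd (Finset.mem_univ _) h

include hg hq in
theorem scale (y : Fin n → k) (a : k) (v : J × ι × Fin (m + 1) → k) (hv : at' (TT g q m M) y v = 0) :
    ∃ v', at' (TT g q m M) (a • y) v' = 0 ∧ e0 k ι J m v' = e0 k ι J m v := by
  let σ : MvPolynomial (Fin 2) k →ₐ[k] MvPolynomial (Fin 2) k := aeval ![X 0, C a * X 1]
  have hσ : ∀ f, σ (ly y f) = ly (a • y) f := by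
    intro f
    rw [ly, ly, ← AlgHom.comp_apply]
    congr 1
    apply MvPolynomial.algHom_ext
    intro i
    rw [AlgHom.comp_apply, aeval_X, aeval_X]
    refine Fin.cases ?_ (fun i => ?_) i
    · simp [σ]
    · simp [σ, mul_left_comm, mul_assoc]
  rw [mem_ker_iff hg hq] at hv
  have h1 := hv.2.map (σ : MvPolynomial (Fin 2) k →+* MvPolynomial (Fin 2) k)
  have h2 : ∀ j b, (σ (tup m v j b)).IsHomogeneous m := by
    intro j b
    have h := (form_isHomogeneous (A := k) m fun e => v (j, b, e)).eval₂ (algebraMap k (MvPolynomial (Fin 2) k))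
      (![X 0, C a * X 1] : Fin 2 → _) (n := 1) (fun a => isHomogeneous_C _ _) (fun i => by
        fin_cases i
        · exact isHomogeneous_X _ _
        · simpa using (isHomogeneous_C (Fin 2) a).mul (isHomogeneous_X _ 1))
    rwa [one_mul] at h
  obtain ⟨v', hv'⟩ := exists_tup h2
  refine ⟨v', ?_, ?_⟩
  · rw [mem_ker_iff hg hq, hv']
    refine ⟨h2, ?_⟩
    intro j j' b
    have := h1 j j' b
    simp only [RingHom.coe_coe, hσ] at this
    exact this
  · funext j b
    rw [← eval_tup, ← eval_tup, hv']
    rw [← aeval_eq_eval]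
    change (aeval ![1, 0] : MvPolynomial (Fin 2) k →ₐ[k] k) (σ (tup m v j b)) = _
    rw [← AlgHom.comp_apply]
    congr 1
    apply MvPolynomial.algHom_ext
    intro i
    rw [AlgHom.comp_apply, aeval_X, aeval_X]
    fin_cases i <;> simp

theorem exists_fam {W : Type*} [AddCommGroup W] [Module k W] [FiniteDimensional k W] (V : Submodule k W) {κ : ℕ}
    (h : Module.finrank k V = κ) : ∃ w : Fin κ → W, LinearIndependent k w ∧ ∀ l, w l ∈ V := by
  let b := Module.finBasisOfFinrankEq k V h
  exact ⟨fun l => b l, b.linearIndependent.map' V.subtype (Submodule.ker_subtype V), fun l => (b l).2⟩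

/-- The main algebraic construction. -/
theorem main [IsAlgClosed k] (hn : 2 ≤ n) (κ : ℕ)
    (hg : ∀ j, (g j).IsHomogeneous M) (hq : ∀ b j a, (q b j a).IsHomogeneous M)
    (hA : ∀ y : Fin n → k, y ≠ 0 → Module.finrank k (Sol g q m y) = κ)
    (hB : ∀ y : Fin n → k, y ≠ 0 → ∀ v ∈ Sol g q m y, ∀ p : Fin 2 → k, p ≠ 0 →
      (∀ j a, eval p (v j a) = 0) → v = 0)
    (U : Submodule k (J → ι → k))
    (hU : ∀ y : Fin n → k, y ≠ 0 → ∀ v ∈ Sol g q m y, (fun j a => eval ![1, 0] (v j a)) ∈ U)
    (hr : Module.finrank k U < n ∨ Module.finrank k U ≤ κ) :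
    ∃ G : Fin κ → J → ι → MvPolynomial (Fin (n + 1)) k, (∀ l j a, (G l j a).IsHomogeneous m) ∧
      (∀ l, IsSol g q (G l)) ∧
      ∀ p : Fin (n + 1) → k, p ≠ 0 → LinearIndependent k fun l => (fun j a => eval p (G l j a)) := by
  classical
  let T := TT g q m M
  obtain ⟨π, hπ⟩ := LinearMap.exists_leftInverse_of_injective U.subtype (Submodule.ker_subtype _)
  have hπ' : ∀ x (hx : x ∈ U), π x = ⟨x, hx⟩ := fun x hx => LinearMap.congr_fun hπ ⟨x, hx⟩
  let e : (J × ι × Fin (m + 1) → k) →ₗ[k] U := π.comp (e0 k ι J m)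
  have hU' : ∀ y : Fin n → k, y ≠ 0 → ∀ v, at' T y v = 0 → e0 k ι J m v ∈ U := by
    intro y hy v hv
    have h1 := hU y hy _ ((mem_ker_iff hg hq y v).mp hv)
    have h2 : (fun j a => eval ![1, 0] (tup m v j a)) = e0 k ι J m v := by
      funext j a
      exact eval_tup v j a
    rwa [h2] at h1
  have he : ∀ y : Fin n → k, y ≠ 0 → ∀ v, at' T y v = 0 → (e v : J → ι → k) = e0 k ι J m v := by
    intro y hy v hv
    exact congrArg Subtype.val (hπ' _ (hU' y hy v hv))
  have hker : ∀ y : Fin n → k, y ≠ 0 → Module.finrank k (LinearMap.ker (at' T y)) = κ := by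
    intro y hy
    rw [finrank_ker hg hq, hA y hy]
  have h10 : (![1, 0] : Fin 2 → k) ≠ 0 := fun h => one_ne_zero (congrFun h 0)
  have hinj0 : ∀ y : Fin n → k, y ≠ 0 → ∀ v, at' T y v = 0 → e0 k ι J m v = 0 → v = 0 := by
    intro y hy v hv hv0
    have h1 := (mem_ker_iff hg hq y v).mp hv
    have h2 := hB y hy _ h1 _ h10 (fun j a => by
      rw [eval_tup, hv0]; rfl)
    apply tup_injective m
    rw [h2, map_zero]
  have hinj : ∀ y : Fin n → k, y ≠ 0 → ∀ v, at' T y v = 0 → e v = 0 → v = 0 := by
    intro y hy v hv hv0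
    refine hinj0 y hy v hv ?_
    rw [← he y hy v hv, hv0]; rfl
  have hscale1 : ∀ y : Fin n → k, y ≠ 0 → ∀ a : k, a ≠ 0 → V T e y ≤ V T e (a • y) := by
    intro y hy a ha w hw
    obtain ⟨v, hv, rfl⟩ := (mem_V T e).mp hw
    obtain ⟨v', hv', h2⟩ := scale hg hq y a v hv
    refine (mem_V T e).mpr ⟨v', hv', ?_⟩
    change π _ = π _
    rw [h2]
  have hsc : ∀ y : Fin n → k, y ≠ 0 → ∀ a : k, a ≠ 0 → V T e (a • y) = V T e y := by
    intro y hy a ha
    refine le_antisymm ?_ (hscale1 y hy a ha)
    have := hscale1 (a • y) (smul_ne_zero ha hy) a⁻¹ (inv_ne_zero ha)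
    rwa [smul_smul, inv_mul_cancel₀ ha, one_smul] at this
  have hdim : ∀ y : Fin n → k, y ≠ 0 → Module.finrank k (V T e y) = κ := by
    intro y hy
    rw [← hker y hy]
    have h1 : V T e y = LinearMap.range (e.domRestrict (LinearMap.ker (at' T y))) := by
      rw [LinearMap.range_domRestrict]; rfl
    rw [h1]
    refine LinearMap.finrank_range_of_inj ?_
    rw [← LinearMap.ker_eq_bot, LinearMap.ker_eq_bot']
    intro v hv
    exact Subtype.ext (hinj y hy v v.2 hv)
  have hV : ∀ y y' : Fin n → k, y ≠ 0 → y' ≠ 0 → V T e y = V T e y' := by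
    intro y y' hy hy'
    rcases hr with hr | hr
    · refine V_const hker hinj hsc hr ?_ y y' hy hy'
      rw [← hdim y hy]
      exact Submodule.finrank_le _
    · have htop : ∀ y : Fin n → k, y ≠ 0 → V T e y = ⊤ := fun y hy =>
        Submodule.eq_top_of_finrank_eq (le_antisymm (Submodule.finrank_le _) (by rw [hdim y hy]; exact hr))
      rw [htop y hy, htop y' hy']
  let y₁ : Fin n → k := fun _ => 1
  have hy₁ : y₁ ≠ 0 := fun h => one_ne_zero (congrFun h ⟨0, by omega⟩)
  obtain ⟨w, hw, hwV⟩ := exists_fam (V T e y₁) (hdim y₁ hy₁)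
  -- polynomial solutions
  have key : ∀ l : Fin κ, ∃ c : J × ι × Fin (m + 1) → MvPolynomial (Fin n) k,
      (T.mulVec c = 0) ∧ ∀ j a, c (j, a, 0) = C ((w l : J → ι → k) j a) := by
    intro l
    let E0 : Matrix (J × ι) (J × ι × Fin (m + 1)) (MvPolynomial (Fin n) k) :=
      Matrix.of fun x d => if d = (x.1, x.2, 0) then 1 else 0
    have hE0 : ∀ (c : J × ι × Fin (m + 1) → MvPolynomial (Fin n) k) x, E0.mulVec c x = c (x.1, x.2, 0) := by
      intro c x
      simp [Matrix.mulVec, dotProduct, E0]
    have hE0' : ∀ (y : Fin n → k) (c : J × ι × Fin (m + 1) → k) x,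
        (E0.map (eval y)).mulVec c x = e0 k ι J m c x.1 x.2 := by
      intro y c x
      rw [e0_apply]
      simp only [Matrix.mulVec, dotProduct, E0, Matrix.map_apply, Matrix.of_apply]
      rw [Finset.sum_eq_single (x.1, x.2, 0)]
      · simp
      · intro d _ hd
        rw [if_neg hd, map_zero, zero_mul]
      · intro h; exact absurd (Finset.mem_univ _) h
    let N := Matrix.fromRows T E0
    let b : (J × J × ι × Fin (M + m + 1)) ⊕ (J × ι) → MvPolynomial (Fin n) k :=
      Sum.elim 0 fun x => C ((w l : J → ι → k) x.1 x.2)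
    have hNy : ∀ (y : Fin n → k) v, (N.map (eval y)).mulVec v =
        Sum.elim (at' T y v) (fun x => e0 k ι J m v x.1 x.2) := by
      intro y v
      have h1 : N.map (eval y) = Matrix.fromRows (T.map (eval y)) (E0.map (eval y)) := by
        ext i j
        rcases i with i | i <;> rfl
      rw [h1, Matrix.fromRows_mulVec]
      funext i
      rcases i with i | i
      · rfl
      · exact hE0' y v i
    obtain ⟨c, hc⟩ := K790.Hart.exists_poly_solution hn N b (by
      intro y hy v v' hvv
      rw [hNy, hNy] at hvv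
      rw [← sub_eq_zero]
      refine hinj0 y hy _ ?_ ?_
      · rw [map_sub, sub_eq_zero]
        funext i
        exact congrFun hvv (Sum.inl i)
      · rw [map_sub, sub_eq_zero]
        funext j a
        exact congrFun hvv (Sum.inr (j, a))) (by
      intro y hy
      have h1 : w l ∈ V T e y := by
        rw [hV y y₁ hy hy₁]; exact hwV l
      obtain ⟨v, hv, hv2⟩ := (mem_V T e).mp h1
      refine ⟨v, ?_⟩
      rw [hNy, hv]
      funext i
      rcases i with i | i
      · change (0 : k) = eval y 0
        rw [map_zero]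
      · change e0 k ι J m v i.1 i.2 = eval y (C _)
        rw [eval_C, ← he y hy v hv, hv2])
    refine ⟨c, ?_, fun j a => ?_⟩
    · funext i
      have := congrFun hc (Sum.inl i)
      rw [Matrix.fromRows_mulVec] at this
      exact this
    · have := congrFun hc (Sum.inr (j, a))
      rw [Matrix.fromRows_mulVec] at this
      change E0.mulVec c (j, a) = _ at this
      rw [hE0] at this
      exact this
  choose c hc1 hc2 using key
  let G0 : Fin κ → J → ι → MvPolynomial (Fin (n + 1)) k := fun l j a => theta k n (tup m (c l) j a)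
  let G : Fin κ → J → ι → MvPolynomial (Fin (n + 1)) k := fun l j a => homogeneousComponent m (G0 l j a)
  have hG0 : ∀ l, IsSol g q (G0 l) := by
    intro l
    have h1 : eqn (fun j => LU k n (g j)) (fun b j a => LU k n (q b j a)) m M (c l) = 0 := by
      rw [← hc1 l]
      change _ = (TT g q m M).mulVec (c l)
      rw [TT, ← Matrix.toLin'_apply, Matrix.toLin'_toMatrix']
    rw [eqn_eq_zero_iff (fun j => LU_isHomogeneous (hg j)) (fun b j a => LU_isHomogeneous (hq b j a))] at h1
    have h2 := h1.map (theta k n)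
    intro j j' a
    have h3 := h2 j j' a
    simp only [theta_LU] at h3
    exact h3
  have hG : ∀ l, IsSol g q (G l) := by
    intro l j j' a
    have h1 := congrArg (homogeneousComponent (M + m)) (hG0 l j j' a)
    rw [hc_mul (hg j), map_sum] at h1
    change g j * homogeneousComponent m (G0 l j' a) = _
    rw [h1]
    refine Finset.sum_congr rfl fun b _ => ?_
    rw [mul_comm, hc_mul (hq b j' a), mul_comm]
  have hGhom : ∀ l j a, (G l j a).IsHomogeneous m := fun l j a => homogeneousComponent_isHomogeneous _ _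
  have hGval : ∀ l j a, coeff (Finsupp.single 0 m) (G l j a) = (w l : J → ι → k) j a := by
    intro l j a
    change coeff _ (homogeneousComponent m (G0 l j a)) = _
    rw [coeff_homogeneousComponent, if_pos (by simp)]
    change coeff _ (theta k n (form m fun e => c l (j, a, e))) = _
    rw [coeff_theta_form, hc2, coeff_C, if_pos rfl]
  refine ⟨G, hGhom, hG, fun p hp => ?_⟩
  rw [Fintype.linearIndependent_iff]
  intro cc hcc
  -- the combination
  let F : J → ι → MvPolynomial (Fin (n + 1)) k := ∑ l, cc l • G l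
  have hF1 : ∀ j a, F j a = ∑ l, cc l • G l j a := by
    intro j a
    simp [F, Finset.sum_apply]
  have hFhom : ∀ j a, (F j a).IsHomogeneous m := by
    intro j a
    rw [hF1]
    exact IsHomogeneous.sum _ _ _ fun l _ => (homogeneousSubmodule (Fin (n + 1)) k m).smul_mem _ (hGhom l j a)
  have hFsol : IsSol g q F := by
    intro j j' a
    rw [hF1, Finset.mul_sum]
    simp only [hF1, Finset.sum_mul]
    rw [Finset.sum_comm]
    refine Finset.sum_congr rfl fun l _ => ?_
    rw [mul_smul_comm, hG l j j' a, Finset.smul_sum]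
    exact Finset.sum_congr rfl fun b _ => by rw [smul_mul_assoc]
  have hFp : ∀ j a, eval p (F j a) = 0 := by
    intro j a
    have h1 := congrFun (congrFun hcc j) a
    rw [Finset.sum_apply, Finset.sum_apply] at h1
    rw [hF1, map_sum]
    refine Eq.trans ?_ h1
    exact Finset.sum_congr rfl fun l _ => by rw [smul_eval]; rfl
  have hF0 : ∀ j a, coeff (Finsupp.single 0 m) (F j a) = 0 := by
    intro j a
    have h0 : ∀ x : k, eval (Fin.cons x 0 : Fin (n + 1) → k) (F j a) = x ^ m * coeff (Finsupp.single 0 m) (F j a) :=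
      fun x => eval_cons_zero (hFhom j a) x
    by_cases hp' : (fun i : Fin n => p i.succ) = 0
    · have h1 : p = Fin.cons (p 0) 0 := by
        funext i
        refine Fin.cases ?_ (fun i => ?_) i
        · rfl
        · exact congrFun hp' i
      have h2 : p 0 ≠ 0 := by
        intro h3
        apply hp
        rw [h1, h3]
        funext i
        refine Fin.cases ?_ (fun i => ?_) i <;> rfl
      have h3 := hFp j a
      rw [h1, h0] at h3
      exact (mul_eq_zero.mp h3).resolve_left (pow_ne_zero _ h2)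
    · have h1 : (fun j a => ly (fun i : Fin n => p i.succ) (F j a)) ∈ Sol g q m (fun i : Fin n => p i.succ) := by
        refine ⟨fun j a => ly_isHomogeneous _ (hFhom j a), ?_⟩
        exact hFsol.map (ly (fun i : Fin n => p i.succ) : MvPolynomial (Fin (n + 1)) k →+* MvPolynomial (Fin 2) k)
      have h2 := hB _ hp' _ h1 ![p 0, 1] (fun h => one_ne_zero (congrFun h 1)) (fun j a => by
        rw [eval_ly]
        have h3 : (Fin.cons ((![p 0, 1] : Fin 2 → k) 0) fun i : Fin n => p i.succ * (![p 0, 1] : Fin 2 → k) 1) = p := by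
          funext i
          refine Fin.cases ?_ (fun i => ?_) i
          · simp
          · simp
        rw [h3]
        exact hFp j a)
      have h3 := congrFun (congrFun h2 j) a
      have h4 := congrArg (eval ![1, 0]) h3
      rw [eval_ly] at h4
      have h5 : (Fin.cons ((![1, 0] : Fin 2 → k) 0) fun i : Fin n => p i.succ * (![1, 0] : Fin 2 → k) 1) =
          (Fin.cons 1 0 : Fin (n + 1) → k) := by
        funext i
        refine Fin.cases ?_ (fun i => ?_) i
        · simp
        · simp
      rw [h5, h0, one_pow, one_mul] at h4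
      rw [h4]
      simp
  have hw0 : ∑ l, cc l • w l = 0 := by
    apply Subtype.ext
    funext j a
    have h1 := hF0 j a
    rw [hF1, coeff_sum] at h1
    have h2 : ((∑ l, cc l • w l : U) : J → ι → k) j a = ∑ l, cc l * (w l : J → ι → k) j a := by
      rw [AddSubmonoidClass.coe_finset_sum, Finset.sum_apply, Finset.sum_apply]
      rfl
    rw [h2]
    change _ = (0 : k)
    rw [← h1]
    exact Finset.sum_congr rfl fun l _ => by rw [coeff_smul, hGval]; rfl
  exact Fintype.linearIndependent_iff.mp hw cc hw0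

end K790.LineMain
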