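import Groth.Agent.VBPn.K698.PlPull
import Groth.Agent.VBPn.K699.GMat
import Groth.Agent.VBPn.K790.LineMain

/-!
# Equational presentations of vector bundles on projective space

`σ_a : O(m) → E` jointly epimorphic, `w_{j,a} : E → O(m')`, `σ_b ≫ w_{j,a} = q_{b,j,a}` forms of degree `D` and
`∑_a q_{b,j,a} σ_a = g_j σ_b` for forms `g_j` of degree `D` without common zeros (that is `∑_a w_{j,a} σ_a = g_j`).
Then `E` is described by the equations `g_j v_{j',c} = ∑_a v_{j,a} q_{a,j',c}` in `O(m')^{J × ι}`.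
-/

set_option autoImplicit false
universe u

open CategoryTheory CategoryTheory.Limits AlgebraicGeometry Opposite TopologicalSpace TopCat
open Groth.Agent Groth.Agent.Sga67.Sec Groth.Agent.Sga67.LocBasis K699.TwHom
open Groth.Agent.VarietyB.TwistMul K698.Val K698.Pl Groth.Agent.Ega3A.TwistBC

namespace K790.Eqp

open K790.LineSys

attribute [local instance] CategoryTheory.Limits.HasFiniteBiproducts.of_hasFiniteProducts

variable {n : ℕ} {k : Type u} [Field k]

theorem val_comp_mulMap {M : (PP n k).Modules} {i : ℕ} (a : gr n k i) {m m' : ℤ} (h : m + i = m')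
    (f : M ⟶ OO n k m) {U : (PP n k).Opens} (s : Sec M U) (x : Pt n k) (hx : x ∈ U) :
    val (appS (f ≫ mulMap a h) U s) x hx = al x a.1 * val (appS f U s) x hx := by
  rw [appS_comp, val_mulMap]

/-- An equational presentation of a module on `Proj` of a graded ring. -/
structure EqG {R A : Type u} [CommRing R] [CommRing A] [Algebra R A] (𝒜 : ℕ → Submodule R A)
    [GradedAlgebra 𝒜] (E : (Proj 𝒜).Modules) (ι J : Type) [Fintype ι] (m m' : ℤ) (D : ℕ) where
  hm : m + D = m'
  σ : ι → (Twist.twist 𝒜 m ⟶ E)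
  w : J → ι → (E ⟶ Twist.twist 𝒜 m')
  q : ι → J → ι → 𝒜 D
  g : J → 𝒜 D
  sw : ∀ b j a, σ b ≫ w j a = mulMap (q b j a) hm
  rel : ∀ (j : J) (b : ι) (m₀ : ℤ) (h : m₀ + D = m), ∑ a, mulMap (q b j a) h ≫ σ a = mulMap (g j) h ≫ σ b
  epi : ∀ (Z : (Proj 𝒜).Modules) (f : E ⟶ Z), (∀ a, σ a ≫ f = 0) → f = 0
  nz : ∀ x : ProjectiveSpectrum 𝒜, ∃ j, (g j).1 ∉ x.asHomogeneousIdeal

/-- An equational presentation of a module on projective space. -/
abbrev EqP (E : (PP n k).Modules) (ι J : Type) [Fintype ι] (m m' : ℤ) (D : ℕ) := EqG (gr n k) E ι J m m' D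

namespace EqP

variable {E : (PP n k).Modules} {ι J : Type} [Fintype ι] {m m' : ℤ} {D : ℕ} (P : EqP E ι J m m' D)

include P

theorem gen {U : (PP n k).Opens} (s : Sec E U) {x : PP n k} (hx : x ∈ U) :
    ∃ (V : (PP n k).Opens) (h : V ≤ U), x ∈ V ∧ ∃ c : ι → Sec (OO n k m) V,
      ∑ a, appS (P.σ a) V (c a) = res E h s := by
  have : Epi (biproduct.desc P.σ) := by
    apply Preadditive.epi_of_cancel_zero
    intro Z f hf
    apply P.epi
    intro a
    rw [← biproduct.ι_desc P.σ a, Category.assoc, hf, comp_zero]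
  obtain ⟨V, hV, hxV, t, ht⟩ := locally_surjective_of_epi (biproduct.desc P.σ) s x hx
  refine ⟨V, hV, hxV, fun a => appS (biproduct.π _ a) V t, ?_⟩
  rw [← ht, biproduct.desc_eq, appS_sum]
  rfl

theorem val_sw (b : ι) (j : J) (a : ι) {U : (PP n k).Opens} (t : Sec (OO n k m) U) (x : Pt n k) (hx : x ∈ U) :
    val (appS (P.w j a) U (appS (P.σ b) U t)) x hx = al x (P.q b j a).1 * val t x hx := by
  rw [← appS_comp, P.sw b j a, val_mulMap]

theorem key (j : J) {U : (PP n k).Opens} (hU : ∀ x ∈ U, (P.g j).1 ∉ (x : Pt n k).asHomogeneousIdeal)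
    (e : Sec E U) (α : ι → Sec (OO n k m) U)
    (hα : ∀ (a : ι) (x : Pt n k) (hx : x ∈ U), al x (P.g j).1 * val (α a) x hx = val (appS (P.w j a) U e) x hx) :
    e = ∑ a, appS (P.σ a) U (α a) := by
  apply eq_of_locally
  intro x hx
  obtain ⟨V, hV, hxV, c, hc⟩ := P.gen e hx
  refine ⟨V, hV, hxV, ?_⟩
  have h0 : (m - D) + D = m := by ring
  choose ρ hρ using fun i => mulMap_surj (P.g j) h0 (U := V) (fun x hx => hU x (hV hx)) (c i)
  have hrel : ∀ i, appS (P.σ i) V (c i) = ∑ a, appS (P.σ a) V (appS (mulMap (P.q i j a) h0) V (ρ i)) := by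
    intro i
    have h1 := congrArg (fun f : OO n k (m - D) ⟶ E => appS f V (ρ i)) (P.rel j i (m - D) h0)
    simp only [appS_sum] at h1
    have h2 : appS (mulMap (P.g j) h0 ≫ P.σ i) V (ρ i) = appS (P.σ i) V (c i) := by
      rw [appS_comp, hρ i]
    rw [← h2, ← h1]
    exact Finset.sum_congr rfl fun a _ => appS_comp _ _ _ _
  have hval : ∀ (a : ι) (y : Pt n k) (hy : y ∈ V),
      val (appS (P.w j a) U e) y (hV hy) = ∑ i, al y (P.q i j a).1 * (al y (P.g j).1 * val (ρ i) y hy) := by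
    intro d y hy
    have h1 : val (appS (P.w j d) U e) y (hV hy) = val (appS (P.w j d) V (res E hV e)) y hy := by
      rw [appS_res, val_res]
    rw [h1, ← hc, map_sum, val_sum]
    refine Finset.sum_congr rfl fun i _ => ?_
    rw [P.val_sw, ← hρ i, val_mulMap]
  have hα' : ∀ a, res _ hV (α a) = ∑ i, appS (mulMap (P.q i j a) h0) V (ρ i) := by
    intro a
    apply val_ext
    intro y hy
    have h1 := hα a y (hV hy)
    rw [hval a y hy] at h1
    apply (isUnit_al (P.g j) y (hU y (hV hy))).mul_left_cancel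
    rw [val_sum, Finset.mul_sum]
    refine h1.trans (Finset.sum_congr rfl fun i _ => ?_)
    rw [val_mulMap]
    ring
  rw [map_sum]
  have h3 : ∀ a, res E hV (appS (P.σ a) U (α a)) = ∑ i, appS (P.σ a) V (appS (mulMap (P.q i j a) h0) V (ρ i)) := by
    intro a
    rw [← appS_res, hα', map_sum]
  rw [Finset.sum_congr rfl fun a _ => h3 a, Finset.sum_comm, ← hc]
  exact Finset.sum_congr rfl fun i _ => hrel i

theorem exists_open {U : (PP n k).Opens} {x : PP n k} (hx : x ∈ U) : ∃ (j : J) (V : (PP n k).Opens),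
    V ≤ U ∧ x ∈ V ∧ ∀ y ∈ V, (P.g j).1 ∉ (y : Pt n k).asHomogeneousIdeal := by
  obtain ⟨j, hj⟩ := P.nz x
  exact ⟨j, U ⊓ Proj.basicOpen (gr n k) (P.g j).1, inf_le_left, ⟨hx, hj⟩, fun y hy => hy.2⟩

theorem eq_zero {U : (PP n k).Opens} (e : Sec E U) (h : ∀ j a, appS (P.w j a) U e = 0) : e = 0 := by
  apply eq_of_locally
  intro x hx
  obtain ⟨j, V, hV, hxV, hj⟩ := P.exists_open hx
  refine ⟨V, hV, hxV, ?_⟩
  have h1 := P.key j hj (res E hV e) (fun _ => 0) (by
    intro a y hy
    rw [appS_res, h, map_zero, val_zero, val_zero, mul_zero])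
  rw [h1, map_zero]
  exact Finset.sum_eq_zero fun a _ => map_zero _

theorem hom_eq_zero {M : (PP n k).Modules} (v : M ⟶ E) (h : ∀ j a, v ≫ P.w j a = 0) : v = 0 := by
  apply Sga67.Sec.hom_ext
  intro U s
  rw [appS_zero]
  apply P.eq_zero
  intro j a
  rw [← appS_comp, h j a, appS_zero]

theorem hom_ext {M : (PP n k).Modules} {v v' : M ⟶ E} (h : ∀ j a, v ≫ P.w j a = v' ≫ P.w j a) : v = v' := by
  rw [← sub_eq_zero]
  apply P.hom_eq_zero
  intro j a
  rw [Preadditive.sub_comp, h, sub_self]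

theorem quad (b : ι) (j j' : J) (c : ι) :
    ∑ a, (P.q b j a).1 * (P.q a j' c).1 = (P.g j).1 * (P.q b j' c).1 := by
  refine al_eq_of_mulMap_eq (m := m - D) fun U s x hx => ?_
  have h0 : (m - D) + D = m := by ring
  have h1 := congrArg (fun f : OO n k (m - D) ⟶ E => val (appS (P.w j' c) U (appS f U s)) x hx)
    (P.rel j b (m - D) h0)
  simp only [appS_sum, map_sum, val_sum] at h1
  have h2 : ∀ a, val (appS (P.w j' c) U (appS (mulMap (P.q b j a) h0 ≫ P.σ a) U s)) x hx =
      al x (P.q a j' c).1 * (al x (P.q b j a).1 * val s x hx) := fun a => by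
    rw [appS_comp, P.val_sw a j' c _ x hx, val_mulMap]
  have h3 : val (appS (P.w j' c) U (appS (mulMap (P.g j) h0 ≫ P.σ b) U s)) x hx =
      al x (P.q b j' c).1 * (al x (P.g j).1 * val s x hx) := by
    rw [appS_comp, P.val_sw b j' c _ x hx, val_mulMap]
  rw [h3] at h1
  rw [Finset.sum_congr rfl fun a _ => h2 a] at h1
  rw [map_sum, map_mul, Finset.sum_mul]
  refine Eq.trans (Finset.sum_congr rfl fun a _ => ?_) (h1.trans (by ring))
  rw [map_mul]; ring

/-- The relations for the maps `w`. -/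
theorem rel_w (j j' : J) (c : ι) {m'' : ℤ} (h : m' + D = m'') :
    P.w j' c ≫ mulMap (P.g j) h = ∑ a, P.w j a ≫ mulMap (P.q a j' c) h := by
  rw [← sub_eq_zero]
  apply P.epi
  intro d
  rw [Preadditive.comp_sub, sub_eq_zero, Preadditive.comp_sum]
  apply Sga67.Sec.hom_ext
  intro U s
  apply val_ext
  intro x hx
  rw [appS_sum, val_sum]
  have h1 : val (appS (P.σ d ≫ P.w j' c ≫ mulMap (P.g j) h) U s) x hx =
      al x (P.g j).1 * (al x (P.q d j' c).1 * val s x hx) := by
    rw [appS_comp, val_comp_mulMap, P.val_sw d j' c s x hx]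
  have h2 : ∀ a, val (appS (P.σ d ≫ P.w j a ≫ mulMap (P.q a j' c) h) U s) x hx =
      al x (P.q a j' c).1 * (al x (P.q d j a).1 * val s x hx) := by
    intro a
    rw [appS_comp, val_comp_mulMap, P.val_sw d j a s x hx]
  rw [h1, Finset.sum_congr rfl fun a _ => h2 a]
  have h3 := congrArg (al x) (P.quad d j j' c)
  rw [map_sum, map_mul] at h3
  rw [← mul_assoc, ← h3, Finset.sum_mul]
  exact Finset.sum_congr rfl fun a _ => by rw [map_mul]; ring

/-- `W = (w_{j,a})`. -/
noncomputable def W [Finite J] : E ⟶ ⨁ fun _ : J × ι => OO n k m' := biproduct.lift fun x => P.w x.1 x.2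

theorem mono_W [Finite J] : Mono P.W := by
  apply Preadditive.mono_of_cancel_zero
  intro Z f hf
  apply P.hom_eq_zero
  intro j a
  have h1 : (f ≫ P.W) ≫ biproduct.π (fun _ : J × ι => OO n k m') (j, a) = 0 := by rw [hf, zero_comp]
  rw [Category.assoc] at h1
  have h2 : P.W ≫ biproduct.π (fun _ : J × ι => OO n k m') (j, a) = P.w j a := biproduct.lift_π _ _
  rwa [h2] at h1

/-- The equations. -/
noncomputable def T [Finite J] : (⨁ fun _ : J × ι => OO n k m') ⟶ ⨁ fun _ : J × J × ι => OO n k (m' + D) :=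
  biproduct.lift fun p => biproduct.π _ (p.2.1, p.2.2) ≫ mulMap (P.g p.1) rfl -
    ∑ a, biproduct.π _ (p.1, a) ≫ mulMap (P.q a p.2.1 p.2.2) rfl

theorem T_π [Finite J] (p : J × J × ι) : P.T ≫ biproduct.π _ p = biproduct.π _ (p.2.1, p.2.2) ≫ mulMap (P.g p.1) rfl -
    ∑ a, biproduct.π _ (p.1, a) ≫ mulMap (P.q a p.2.1 p.2.2) rfl :=
  biproduct.lift_π _ _

theorem W_π [Finite J] (c : J × ι) : P.W ≫ biproduct.π _ c = P.w c.1 c.2 := biproduct.lift_π _ _

theorem W_π_comp [Finite J] (c : J × ι) {Z : (PP n k).Modules} (f : OO n k m' ⟶ Z) :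
    P.W ≫ biproduct.π _ c ≫ f = P.w c.1 c.2 ≫ f := by
  rw [← Category.assoc, W_π]

theorem W_T [Finite J] : P.W ≫ P.T = 0 := by
  apply biproduct.hom_ext
  intro p
  rw [Category.assoc, T_π, zero_comp, Preadditive.comp_sub, Preadditive.comp_sum, W_π_comp, sub_eq_zero]
  refine (P.rel_w _ _ _ _).trans (Finset.sum_congr rfl fun a _ => ?_)
  rw [W_π_comp]

theorem exact [Finite J] : (ShortComplex.mk P.W P.T P.W_T).Exact := by
  apply exact_of_locally
  intro U s hs x hx
  obtain ⟨j, V, hV, hxV, hj⟩ := P.exists_open hx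
  refine ⟨V, hV, hxV, ?_⟩
  change Sec (⨁ fun _ : J × ι => OO n k m') U at s
  let y : J → ι → Sec (OO n k m') V := fun j a => appS (biproduct.π _ (j, a)) V (res _ hV s)
  have hy : ∀ (j j' : J) (c : ι) (z : Pt n k) (hz : z ∈ V),
      al z (P.g j).1 * val (y j' c) z hz = ∑ a, al z (P.q a j' c).1 * val (y j a) z hz := by
    intro j j' c z hz
    have h1 : appS (P.T ≫ biproduct.π _ (j, j', c)) V (res _ hV s) = 0 := by
      rw [appS_comp, appS_res]
      have : appS P.T U s = 0 := hs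
      rw [this, map_zero, map_zero]
    rw [P.T_π] at h1
    rw [appS_sub, appS_sum, sub_eq_zero] at h1
    have h2 := congrArg (fun t => val t z hz) h1
    simp only [val_sum, val_comp_mulMap] at h2
    exact h2
  choose α hα using fun a => mulMap_surj (P.g j) P.hm hj (y j a)
  refine ⟨∑ a, appS (P.σ a) V (α a), ?_⟩
  have hval : ∀ j' c, appS (P.w j' c) V (∑ a, appS (P.σ a) V (α a)) = y j' c := by
    intro j' c
    apply val_ext
    intro z hz
    rw [map_sum, val_sum]
    apply (isUnit_al (P.g j) z (hj z hz)).mul_left_cancel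
    rw [hy j j' c z hz, Finset.mul_sum]
    refine Finset.sum_congr rfl fun a _ => ?_
    rw [P.val_sw, ← hα a, val_mulMap]
    ring
  refine K699.GMat.sec_ext _ V _ _ fun c => ?_
  change _ = y c.1 c.2
  rw [← hval c.1 c.2, ← P.W_π c]
  rfl

/-- Lifting along `W`. -/
theorem exists_lift [Finite J] {M : (PP n k).Modules} (s : J → ι → (M ⟶ OO n k m'))
    (hs : ∀ j j' c, s j' c ≫ mulMap (P.g j) (rfl : m' + D = m' + D) = ∑ a, s j a ≫ mulMap (P.q a j' c) rfl) :
    ∃ v : M ⟶ E, ∀ j a, v ≫ P.w j a = s j a := by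
  have := P.mono_W
  have hex := P.exact
  have h1 : (biproduct.lift fun x : J × ι => s x.1 x.2) ≫ P.T = 0 := by
    apply biproduct.hom_ext
    intro p
    rw [Category.assoc, T_π, zero_comp, Preadditive.comp_sub, Preadditive.comp_sum]
    simp only [← Category.assoc, biproduct.lift_π]
    rw [sub_eq_zero]
    exact hs _ _ _
  refine ⟨hex.lift (biproduct.lift fun x : J × ι => s x.1 x.2) h1, fun j a => ?_⟩
  have h2 := hex.lift_f (biproduct.lift fun x : J × ι => s x.1 x.2) h1
  have h3 : (hex.lift (biproduct.lift fun x : J × ι => s x.1 x.2) h1 ≫ P.W) ≫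
      biproduct.π (fun _ : J × ι => OO n k m') (j, a) =
      (biproduct.lift fun x : J × ι => s x.1 x.2) ≫ biproduct.π (fun _ : J × ι => OO n k m') (j, a) :=
    congrArg (· ≫ biproduct.π (fun _ : J × ι => OO n k m') (j, a)) h2
  rw [Category.assoc, P.W_π (j, a), biproduct.lift_π] at h3
  exact h3

theorem exists_forms {b₀ : ℤ} {e : ℕ} (h : b₀ + e = m') (v : OO n k b₀ ⟶ E) :
    ∃ f : J → ι → gr n k e, (∀ j a, v ≫ P.w j a = mulMap (f j a) h) ∧
      IsSol (fun j => (P.g j).1) (fun b j a => (P.q b j a).1) (fun j a => (f j a).1) := by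
  choose f hf using fun j a => exists_mulMap h (v ≫ P.w j a)
  refine ⟨f, hf, fun j j' c => ?_⟩
  refine al_eq_of_mulMap_eq (m := b₀) fun U s x hx => ?_
  have h1 := congrArg (fun g : E ⟶ OO n k (m' + D) => val (appS g U (appS v U s)) x hx)
    (P.rel_w j j' c (rfl : m' + D = m' + D))
  simp only [appS_sum, val_sum] at h1
  have hw : ∀ j a, val (appS (P.w j a) U (appS v U s)) x hx = al x (f j a).1 * val s x hx := fun j a => by
    rw [← appS_comp, hf j a, val_mulMap]
  have h2 : val (appS (P.w j' c ≫ mulMap (P.g j) (rfl : m' + D = m' + D)) U (appS v U s)) x hx =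
      al x (P.g j).1 * (al x (f j' c).1 * val s x hx) := by
    rw [val_comp_mulMap, hw]
  have h3 : ∀ a, val (appS (P.w j a ≫ mulMap (P.q a j' c) (rfl : m' + D = m' + D)) U (appS v U s)) x hx =
      al x (P.q a j' c).1 * (al x (f j a).1 * val s x hx) := by
    intro a
    rw [val_comp_mulMap, hw]
  rw [h2, Finset.sum_congr rfl fun a _ => h3 a] at h1
  rw [map_mul, map_sum, mul_assoc, h1, Finset.sum_mul]
  exact Finset.sum_congr rfl fun a _ => by rw [map_mul]; ring

theorem exists_map [Finite J] {b₀ : ℤ} {e : ℕ} (h : b₀ + e = m') (f : J → ι → gr n k e)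
    (hf : IsSol (fun j => (P.g j).1) (fun b j a => (P.q b j a).1) (fun j a => (f j a).1)) :
    ∃ v : OO n k b₀ ⟶ E, ∀ j a, v ≫ P.w j a = mulMap (f j a) h := by
  refine P.exists_lift (fun j a => mulMap (f j a) h) fun j j' c => ?_
  apply Sga67.Sec.hom_ext
  intro U s
  apply val_ext
  intro x hx
  rw [appS_sum, val_sum, val_comp_mulMap, val_mulMap]
  simp only [val_comp_mulMap, val_mulMap]
  have h1 := congrArg (al x) (hf j j' c)
  rw [map_mul, map_sum] at h1
  rw [← mul_assoc, h1, Finset.sum_mul]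
  exact Finset.sum_congr rfl fun a _ => by rw [map_mul]; ring

/-- `g_j v = ∑_a v_{j,a} σ_a`. -/
theorem forms_rel {b₀ b₁ : ℤ} {e : ℕ} (h : b₀ + e = m') (v : OO n k b₀ ⟶ E) (f : J → ι → gr n k e)
    (hf : ∀ j a, v ≫ P.w j a = mulMap (f j a) h)
    (hsol : IsSol (fun j => (P.g j).1) (fun b j a => (P.q b j a).1) (fun j a => (f j a).1))
    (h₁ : b₁ + D = b₀) (h₂ : b₁ + e = m) (j : J) :
    mulMap (P.g j) h₁ ≫ v = ∑ a, mulMap (f j a) h₂ ≫ P.σ a := by
  apply P.hom_ext
  intro j' c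
  rw [Preadditive.sum_comp]
  apply Sga67.Sec.hom_ext
  intro U s
  apply val_ext
  intro x hx
  rw [appS_sum, val_sum]
  have h3 : val (appS ((mulMap (P.g j) h₁ ≫ v) ≫ P.w j' c) U s) x hx = al x (f j' c).1 * (al x (P.g j).1 * val s x hx) := by
    rw [Category.assoc, hf j' c, appS_comp, val_mulMap, val_mulMap]
  have h4 : ∀ a, val (appS ((mulMap (f j a) h₂ ≫ P.σ a) ≫ P.w j' c) U s) x hx =
      al x (P.q a j' c).1 * (al x (f j a).1 * val s x hx) := fun a => by
    rw [Category.assoc, P.sw a j' c, appS_comp, val_mulMap, val_mulMap]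
  rw [h3, Finset.sum_congr rfl fun a _ => h4 a]
  have h1 := congrArg (al x) (hsol j j' c)
  rw [map_mul, map_sum] at h1
  have h5 : al x (f j' c).1 * (al x (P.g j).1 * val s x hx) = (al x (P.g j).1 * al x (f j' c).1) * val s x hx := by ring
  rw [h5, h1, Finset.sum_mul]
  exact Finset.sum_congr rfl fun a _ => by rw [map_mul]; ring

end EqP

section Pull

variable {R A R' B : Type u} [CommRing R] [CommRing A] [Algebra R A] [CommRing R'] [CommRing B]
  [Algebra R' B] {𝒜 : ℕ → Submodule R A} [GradedAlgebra 𝒜] {ℬ : ℕ → Submodule R' B} [GradedAlgebra ℬ]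
  (φ : 𝒜 →+*ᵍ ℬ)
  (hφ : HomogeneousIdeal.irrelevant ℬ ≤ (HomogeneousIdeal.irrelevant 𝒜).map φ)
  (hA : Ega2.TwistInv.CoveredByOne 𝒜)

variable {E : (Proj 𝒜).Modules} {ι J : Type} [Fintype ι] {m m' : ℤ} {D : ℕ} (P : EqG 𝒜 E ι J m m' D)

/-- The pullback of an equational presentation. -/
noncomputable def EqG.pull :
    EqG ℬ ((Scheme.Modules.pullback (Proj.map φ hφ)).obj E) ι J m m' D where
  hm := P.hm
  σ a := (pullO φ hφ hA m).inv ≫ (Scheme.Modules.pullback (Proj.map φ hφ)).map (P.σ a)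
  w j a := (Scheme.Modules.pullback (Proj.map φ hφ)).map (P.w j a) ≫ (pullO φ hφ hA m').hom
  q b j a := mapForm φ (P.q b j a)
  g j := mapForm φ (P.g j)
  sw b j a := by
    rw [Category.assoc, ← Category.assoc _ _ (pullO φ hφ hA m').hom, ← Functor.map_comp, P.sw,
      map_mulMap φ hφ hA]
    simp
  rel j b m₀ h := by
    have := pullback_additive (Proj.map φ hφ)
    have key : ∀ (p : 𝒜 D) (c : ι), mulMap (mapForm φ p) h ≫ (pullO φ hφ hA m).inv ≫
        (Scheme.Modules.pullback (Proj.map φ hφ)).map (P.σ c) =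
        (pullO φ hφ hA m₀).inv ≫ (Scheme.Modules.pullback (Proj.map φ hφ)).map (mulMap p h ≫ P.σ c) := by
      intro p c
      rw [Functor.map_comp, map_mulMap φ hφ hA]
      simp
    rw [key, Finset.sum_congr rfl fun a _ => key _ a, ← Preadditive.comp_sum, ← Functor.map_sum, P.rel]
  epi Z f hf := by
    have := pullback_additive (Proj.map φ hφ)
    refine adj_epi (Scheme.Modules.pullbackPushforwardAdjunction (Proj.map φ hφ)) P.σ P.epi Z f fun a => ?_
    have h1 := hf a
    rw [Category.assoc] at h1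
    rw [← cancel_epi (pullO φ hφ hA m).inv, h1, comp_zero]
  nz x := by
    obtain ⟨j, h⟩ := P.nz (ProjectiveSpectrum.comap φ hφ x)
    exact ⟨j, h⟩

theorem EqG.pull_q (b : ι) (j : J) (a : ι) : (P.pull φ hφ hA).q b j a = mapForm φ (P.q b j a) := rfl

theorem EqG.pull_g (j : J) : (P.pull φ hφ hA).g j = mapForm φ (P.g j) := rfl

end Pull

end K790.Eqp
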