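import Groth.Agent.VBPn.K790.Eqp
import Groth.Agent.VBPn.K698.PlExist
import Groth.Agent.VBPn.K697.ExtTw
import Groth.Agent.Dcoh.DualFLF
import Groth.Agent.Dcoh.MonTm
import Groth.Agent.Sga67.TensorOps
import Groth.Agent.PerfA.CohSerre
import Groth.Agent.S2297
import Groth.Agent.VBPn.K699.RankOO
import Groth.Agent.VBPn.K699.LinForm

/-!
# Finite locally free modules on projective space have equational presentations
-/

set_option autoImplicit false
universe u

open CategoryTheory CategoryTheory.Limits AlgebraicGeometry Opposite TopologicalSpace TopCat MonoidalCategory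
open Groth.Agent Groth.Agent.Sga67.Sec Groth.Agent.Sga67.LocBasis K699.TwHom
open Groth.Agent.VarietyB.TwistMul K698.Val K698.Pl Groth.Agent.Dcoh.MonTm

namespace K790.EqpEx

open K790.Eqp
open scoped Groth.Agent.Dcoh.MonCat

attribute [local instance] CategoryTheory.Limits.HasFiniteBiproducts.of_hasFiniteProducts

variable {n : ℕ} {k : Type u} [Field k]

/-- `O ≅ O(0)`. -/
noncomputable def u0 (n : ℕ) (k : Type u) [Field k] : Coh.structureModule (PP n k) ≅ OO n k 0 :=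
  @asIso _ _ _ _ _ (Ega2.TwistInv.isIso_unitHom_oneSec (𝒜 := gr n k))

theorem u0_app {U : (PP n k).Opens} (c : Γ(PP n k, U)) (x : Pt n k) (hx : x ∈ U) :
    val (appS (u0 n k).hom U (show Sec (Coh.structureModule (PP n k)) U from c)) x hx = valO c x hx := by
  have h1 : appS (u0 n k).hom U (show Sec (Coh.structureModule (PP n k)) U from c) =
      c • (show Sec (OO n k 0) U from (OO n k 0).presheaf.map (homOfLE le_top).op
        (Ega2.TwistInv.oneSec (𝒜 := gr n k) ⊤)) :=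
    Ega2.TensHom.unitHom_app _ _ _ _
  rw [h1, val_smul]
  have h2 : val (show Sec (OO n k 0) U from (OO n k 0).presheaf.map (homOfLE le_top).op
        (Ega2.TwistInv.oneSec (𝒜 := gr n k) ⊤)) x hx = 1 := Localization.mk_one
  rw [h2, mul_one]

/-- The function attached to a section of `O(0)`. -/
theorem exists_fun {U : (PP n k).Opens} (t : Sec (OO n k 0) U) :
    ∃ c : Γ(PP n k, U), appS (u0 n k).inv U t = (show Sec (Coh.structureModule (PP n k)) U from c) ∧
      ∀ (x : Pt n k) (hx : x ∈ U), valO c x hx = val t x hx := by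
  refine ⟨(show Γ(PP n k, U) from appS (u0 n k).inv U t), rfl, fun x hx => ?_⟩
  rw [← u0_app]
  have h1 : appS (u0 n k).hom U (appS (u0 n k).inv U t) = t := by
    rw [← appS_comp, Iso.inv_hom_id, appS_id]
  exact congrArg (fun t => val t x hx) h1

variable {E : (PP n k).Modules}

/-- `e ⊗ t ↦ (a t) e`. -/
noncomputable def fmap (E : (PP n k).Modules) {D : ℕ} (a : gr n k D) : E ⊗ OO n k (-(D : ℤ)) ⟶ E :=
  E ◁ (mulMap a (show (-(D : ℤ)) + D = 0 by ring) ≫ (u0 n k).inv) ≫ (ρ_ E).hom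

theorem fmap_tm {D : ℕ} (a : gr n k D) {U : (PP n k).Opens} (e : Γ(E, U)) (t : Γ(OO n k (-(D : ℤ)), U)) :
    ∃ c : Γ(PP n k, U), (fmap E a).app U (tm e t) = c • e ∧
      ∀ (x : Pt n k) (hx : x ∈ U), valO c x hx = al x a.1 * val (d := -(D : ℤ)) t x hx := by
  obtain ⟨c, hc, hc'⟩ := exists_fun (appS (mulMap a (show (-(D : ℤ)) + D = 0 by ring)) U t)
  refine ⟨c, ?_, fun x hx => (hc' x hx).trans (val_mulMap _ _ _ _ _)⟩
  have h1 : (E ◁ (mulMap a (show (-(D : ℤ)) + D = 0 by ring) ≫ (u0 n k).inv)).app U (tm e t) =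
      tm e (show Γ(𝟙_ (PP n k).Modules, U) from c) :=
    (whiskerLeft_tm _ _ _ _).trans (congrArg (tm e) hc)
  have h2 : (fmap E a).app U (tm e t) = (ρ_ E).hom.app U
      ((E ◁ (mulMap a (show (-(D : ℤ)) + D = 0 by ring) ≫ (u0 n k).inv)).app U (tm e t)) := rfl
  rw [h2, h1]
  exact rightUnitor_hom_tm _ _

/-- Lifting `a ·` through an epimorphism. -/
theorem exists_s (hE : FlatMod.IsFinLocFree E) (hEq : Coh.IsQCoh E) {F : (PP n k).Modules} (hF : Coh.IsCoh F)
    (p : F ⟶ E) [Epi p] : ∃ D₀ : ℕ, ∀ D : ℕ, D₀ ≤ D → ∀ a : gr n k D,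
      ∃ s : E ⊗ OO n k (-(D : ℤ)) ⟶ F, s ≫ p = fmap E a := by
  have hnoeth : IsLocallyNoetherian (PP n k) := (CohqA.ProjDim.isNoetherian k n).toIsLocallyNoetherian
  obtain ⟨E', ⟨pE⟩⟩ := Dcoh.DualFLF.exists_exactPairing hE
  have hE' : FlatMod.IsFinLocFree E' := @Dcoh.DualFLF.isFinLocFree_dual _ _ hE E' pE
  letI := pE
  letI pE' : ExactPairing E' E := BraidedCategory.exactPairing_swap E E'
  let S₀ : ShortComplex (PP n k).Modules := ShortComplex.mk (kernel.ι p) p (kernel.condition p)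
  have hS₀ : S₀.ShortExact :=
    { exact := ShortComplex.exact_of_f_is_kernel _ (kernelIsKernel p)
      mono_f := inferInstanceAs (Mono (kernel.ι p))
      epi_g := inferInstanceAs (Epi p) }
  have hS := Sga67.TensorOps.tensor_shortExact hE' hS₀
  have hK : Coh.IsCoh (kernel p) := PerfA.CohSerre.isCoh_kernel p hF hEq
  have hE'c : Coh.IsCoh E' := PerfA.CohSerre.isCoh_of_isFinLocFree hE'
  have hKt : Coh.IsCoh (CohB1.tensorMod E' (kernel p)) := by
    have := hK.1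
    have := hE'c.1
    exact ⟨(S2297.result E' (kernel p)).1, (S2297.result E' (kernel p)).2 hE'c.2 hK.2⟩
  obtain ⟨D₀, hD₀⟩ := Gaga.H883.Serre.serre (n := n) (R := k) hKt
  refine ⟨D₀, fun D hD a => ?_⟩
  have hvan : Subsingleton (Coh.HH (CohB1.ProjSpace n k)
      (CohB1.tensorMod (Sga67.TensorOps.tensorShort E' S₀).X₁ (Twist.twistProjSpace n k (-(-(D : ℤ))))) 1) := by
    rw [neg_neg]
    exact hD₀ D (by exact_mod_cast hD) 1 le_rfl
  let f' : OO n k (-(D : ℤ)) ⟶ E' ⊗ E := tensorLeftHomEquiv (OO n k (-(D : ℤ))) E' E E (fmap E a)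
  obtain ⟨g', hg'⟩ := K697.ExtTw.exists_lift n k hS (-(D : ℤ)) hvan f'
  let g'' : OO n k (-(D : ℤ)) ⟶ E' ⊗ F := g'
  have h1 : tensorLeftHomEquiv (OO n k (-(D : ℤ))) E' E F
      ((tensorLeftHomEquiv (OO n k (-(D : ℤ))) E' E F).symm g'') = g'' := Equiv.apply_symm_apply _ _
  refine ⟨(tensorLeftHomEquiv (OO n k (-(D : ℤ))) E' E F).symm g'', ?_⟩
  apply (tensorLeftHomEquiv (OO n k (-(D : ℤ))) E' E E).injective
  rw [tensorLeftHomEquiv_naturality, h1]
  exact hg'

open TensorProduct in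
/-- The bilinear map of a morphism out of a tensor product, in the other order. -/
noncomputable def bl {M N L : (PP n k).Modules} (s : CohB1.tensorMod M N ⟶ L) (U : (PP n k).Opens) :
    Sec N U →ₗ[Γ(PP n k, U)] Sec M U →ₗ[Γ(PP n k, U)] Sec L U :=
  ((TensorProduct.mk Γ(PP n k, U) (Sec M U) (Sec N U)).compr₂ ((appS s U).comp (tau M N U))).flip

open TensorProduct in
theorem bl_apply {M N L : (PP n k).Modules} (s : CohB1.tensorMod M N ⟶ L) (U : (PP n k).Opens) (t : Sec N U)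
    (e : Sec M U) : bl s U t e = appS s U (tau M N U (e ⊗ₜ[Γ(PP n k, U)] t)) := rfl

theorem bl_res {M N L : (PP n k).Modules} (s : CohB1.tensorMod M N ⟶ L) (U V : (PP n k).Opens) (h : V ≤ U)
    (t : Sec N U) (e : Sec M U) : bl s V (res N h t) (res M h e) = res L h (bl s U t e) := by
  rw [bl_apply, bl_apply, ← appS_res, ← tau_tres, tres_tmul]

theorem bl_comp {M N L L' : (PP n k).Modules} (s : CohB1.tensorMod M N ⟶ L) (f : L ⟶ L') (U : (PP n k).Opens)
    (t : Sec N U) (e : Sec M U) : bl (s ≫ f) U t e = appS f U (bl s U t e) := by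
  rw [bl_apply, bl_apply, appS_comp]

theorem bl_eq_tm {M N L : (PP n k).Modules} (s : M ⊗ N ⟶ L) (U : (PP n k).Opens) (t : Sec N U)
    (e : Sec M U) : bl (M := M) (N := N) s U t e = s.app U (tm (M := M) (N := N) e t) := rfl

section Rel

variable {m : ℤ} {D N : ℕ} (p : (⨁ fun _ : Fin N => OO n k m) ⟶ E) (g : gr n k D)
  (s : E ⊗ OO n k (-(D : ℤ)) ⟶ ⨁ fun _ : Fin N => OO n k m) (hs : s ≫ p = fmap E g)
  (w : Fin N → (E ⟶ OO n k (m + D)))
  (hw : ∀ (a : Fin N) (U : (PP n k).Opens) (t : Sec (OO n k (-(D : ℤ))) U) (e : Sec E U) (x : Pt n k) (hx : x ∈ U),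
    val (bl (M := E) (N := OO n k (-(D : ℤ))) (s ≫ biproduct.π (fun _ : Fin N => OO n k m) a) U t e) x hx =
      val t x hx * val (appS (w a) U e) x hx)

include hs in
theorem step_p {U : (PP n k).Opens} (e : Sec E U) (u : Sec (OO n k (-(D : ℤ))) U) :
    ∃ c : Γ(PP n k, U), appS p U (bl (M := E) (N := OO n k (-(D : ℤ))) s U u e) = c • e ∧
      ∀ (x : Pt n k) (hx : x ∈ U), valO c x hx = al x g.1 * val u x hx := by
  obtain ⟨c, hc1, hc2⟩ := fmap_tm (E := E) g (U := U) e u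
  exact ⟨c, (congrArg (fun f : E ⊗ OO n k (-(D : ℤ)) ⟶ E =>
    f.app U (tm (M := E) (N := OO n k (-(D : ℤ))) e u)) hs).trans hc1, hc2⟩

theorem step_sum {U : (PP n k).Opens} (z : Sec (⨁ fun _ : Fin N => OO n k m) U) (y : Fin N → Sec (OO n k m) U)
    (h : ∀ a, appS (biproduct.π (fun _ : Fin N => OO n k m) a) U z = y a) :
    ∑ a, appS (biproduct.ι (fun _ : Fin N => OO n k m) a ≫ p) U (y a) = appS p U z := by
  have h2 : z = ∑ a, appS (biproduct.ι (fun _ : Fin N => OO n k m) a) U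
      (appS (biproduct.π (fun _ : Fin N => OO n k m) a) U z) := (K699.GMat.sec_total _ _ _).symm
  rw [h2, map_sum]
  refine Finset.sum_congr rfl fun a _ => ?_
  rw [h, ← appS_comp]

include hw in
theorem step_val {q : Fin N → gr n k D} {σ : OO n k m ⟶ E}
    (hq : ∀ a, σ ≫ w a = mulMap (q a) (rfl : m + D = m + D)) {m₁ : ℤ} (h : m₁ + D = m)
    {U : (PP n k).Opens} (t : Sec (OO n k m₁) U) (t1 : Sec (OO n k m) U) (u : Sec (OO n k (-(D : ℤ))) U)
    (ht : ∀ (y : Pt n k) (hy : y ∈ U), val u y hy * val t1 y hy = val t y hy) (a : Fin N) :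
    appS (biproduct.π (fun _ : Fin N => OO n k m) a) U
      (bl (M := E) (N := OO n k (-(D : ℤ))) s U u (appS σ U t1)) = appS (mulMap (q a) h) U t := by
  refine (bl_comp (M := E) (N := OO n k (-(D : ℤ))) s _ U u _).symm.trans ?_
  apply val_ext
  intro y hy
  have h1 : appS (w a) U (appS σ U t1) = appS (mulMap (q a) (rfl : m + D = m + D)) U t1 := by
    rw [← hq a, appS_comp]
  rw [hw, h1, val_mulMap, val_mulMap, ← ht]
  ring

include hs hw in
theorem rel_loc {q : Fin N → gr n k D} {σ : OO n k m ⟶ E}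
    (hq : ∀ a, σ ≫ w a = mulMap (q a) (rfl : m + D = m + D)) {m₁ : ℤ} (h : m₁ + D = m)
    {V : (PP n k).Opens} (f : gr n k 1) (hV : ∀ y ∈ V, f.1 ∉ (y : Pt n k).asHomogeneousIdeal)
    (t : Sec (OO n k m₁) V) :
    ∑ a, appS (biproduct.ι (fun _ : Fin N => OO n k m) a ≫ p) V (appS (mulMap (q a) h) V t) =
      appS σ V (appS (mulMap g h) V t) := by
  let u := pw f (-(D : ℤ)) V hV
  let t1 : Sec (OO n k m) V := mulL (show (D : ℤ) + m₁ = m by omega) V (pw f D V hV) t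
  have ht1 : ∀ (y : Pt n k) (hy : y ∈ V), val u y hy * val t1 y hy = val t y hy := by
    intro y hy
    have h1 : val t1 y hy = val (pw f D V hV) y hy * val t y hy := val_mulL _ _ _ _ _
    rw [h1, ← mul_assoc, val_pw_mul_neg, one_mul]
  obtain ⟨c, hc1, hc2⟩ := step_p p g s hs (appS σ V t1) u
  rw [step_sum p _ _ (step_val s w hw hq h t t1 u ht1), hc1, ← map_smul]
  congr 1
  apply val_ext
  intro y hy
  rw [val_smul, val_mulMap, hc2, ← ht1]
  ring

include hs hw in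
theorem rel_aux {q : Fin N → gr n k D} {σ : OO n k m ⟶ E}
    (hq : ∀ a, σ ≫ w a = mulMap (q a) (rfl : m + D = m + D)) {m₁ : ℤ} (h : m₁ + D = m) :
    ∑ a, mulMap (q a) h ≫ biproduct.ι (fun _ : Fin N => OO n k m) a ≫ p = mulMap g h ≫ σ := by
  apply Sga67.Sec.hom_ext
  intro U t0
  apply eq_of_locally
  intro x hx
  obtain ⟨f, W, hxW, hW⟩ := exists_chart (n := n) (R := k) x
  refine ⟨U ⊓ W, inf_le_left, ⟨hx, hxW⟩, ?_⟩
  rw [← appS_res, ← appS_res, appS_sum, appS_comp]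
  have hV : ∀ y ∈ U ⊓ W, f.1 ∉ (y : Pt n k).asHomogeneousIdeal := fun y hy => hW y hy.2
  refine Eq.trans (Finset.sum_congr rfl fun a _ => ?_)
    (rel_loc p g s hs w hw hq h f hV (res (OO n k m₁) (inf_le_left : U ⊓ W ≤ U) t0))
  rw [appS_comp]

end Rel

theorem nz_aux {D : ℕ} (x : Pt n k) :
    ∃ j : Fin (n + 1), (MvPolynomial.X j ^ D : MvPolynomial (Fin (n + 1)) k) ∉ x.asHomogeneousIdeal := by
  obtain ⟨f, U, hxU, hU⟩ := exists_chart (n := n) (R := k) x
  obtain ⟨a, rfl⟩ := K699.LinForm.exists_lf f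
  have h1 := hU x hxU
  rw [K699.LinForm.lf_val] at h1
  by_contra hcon
  push Not at hcon
  apply h1
  refine Ideal.sum_mem _ fun j _ => Ideal.mul_mem_left _ _ ?_
  exact x.isPrime.mem_of_pow_mem D (hcon j)

theorem exists_eqp (hE : FlatMod.IsFinLocFree E) :
    ∃ m₀ : ℤ, ∀ m : ℤ, m ≤ m₀ → ∃ (N D₀ : ℕ), ∀ D : ℕ, D₀ ≤ D →
      ∃ P : EqP E (Fin N) (Fin (n + 1)) m (m + D) D, ∀ j, (P.g j).1 = MvPolynomial.X j ^ D := by
  have hEc : Coh.IsCoh E := PerfA.CohSerre.isCoh_of_isFinLocFree hE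
  obtain ⟨m₀, hm₀⟩ := K698.Pl.exists_epi hEc
  refine ⟨-m₀, fun m hm => ?_⟩
  obtain ⟨N, p, hp⟩ := hm₀ m hm
  have hF : Coh.IsCoh (⨁ fun _ : Fin N => OO n k m) :=
    PerfA.CohSerre.isCoh_of_isFinLocFree (K698.Basic.isFinLocFree_of_rank
      (K699.RankOO.rank_OO (n := n) (R := k) (ι := Fin N) (N := N) (by simp) m))
  obtain ⟨D₀, hD₀⟩ := exists_s hE hEc.1 hF p
  refine ⟨N, D₀, fun D hD => ?_⟩
  choose s hs using fun j : Fin (n + 1) => hD₀ D hD ⟨MvPolynomial.X j ^ D, X_pow_mem j D⟩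
  have hc : (-(D : ℤ)) + (m + D) = m := by ring
  choose w hw using fun (j : Fin (n + 1)) (a : Fin N) => exists_div hc
    (fun U => bl (M := E) (N := OO n k (-(D : ℤ))) (s j ≫ biproduct.π (fun _ : Fin N => OO n k m) a) U)
    (fun U V h t e => bl_res _ U V h t e)
  let σ : Fin N → (OO n k m ⟶ E) := fun a => biproduct.ι (fun _ : Fin N => OO n k m) a ≫ p
  choose q hq using fun (b : Fin N) (j : Fin (n + 1)) (a : Fin N) =>
    exists_mulMap (rfl : m + D = m + D) (σ b ≫ w j a)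
  refine ⟨EqG.mk rfl σ w q (fun j => ⟨MvPolynomial.X j ^ D, X_pow_mem j D⟩) hq ?_ ?_ nz_aux, fun j => rfl⟩
  · intro j b m₁ h
    exact rel_aux p _ (s j) (hs j) (w j) (hw j) (hq b j) h
  · intro Z f hf
    have h1 : p ≫ f = 0 := by
      apply biproduct.hom_ext'
      intro a
      rw [comp_zero, ← Category.assoc]
      exact hf a
    rw [← cancel_epi p, h1, comp_zero]

end K790.EqpEx
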