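import Groth.Agent.VBPn.K790.LineSide
import Groth.Agent.VBPn.K790.LineMain
import Groth.Agent.VBPn.K697.LinSeq

/-!
# The line argument applied to a vector bundle
-/

set_option autoImplicit false
universe u

open CategoryTheory CategoryTheory.Limits AlgebraicGeometry Opposite TopologicalSpace TopCat
open Groth.Agent Groth.Agent.Sga67.Sec Groth.Agent.Sga67.LocBasis K699.TwHom
open Groth.Agent.VarietyB.TwistMul K698.Val K698.Pl Groth.Agent.Ega3A.TwistBC MvPolynomial

namespace K790.LineApp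

open K790.LineSys K790.Eqp K790.LineSide K697.Lin K697.LinSeq

variable {n : ℕ} {k : Type u} [Field k]

/-- The line through `e_0` in the direction `y`. -/
noncomputable def Ay (y : Fin n → k) : (Fin (n + 1) → k) →ₗ[k] (Fin (1 + 1) → k) where
  toFun v := ![v 0, ∑ i, y i * v i.succ]
  map_add' v w := by
    funext j
    refine Fin.cases ?_ (fun j => ?_) j
    · simp
    · simp [mul_add, Finset.sum_add_distrib]
  map_smul' c v := by
    funext j
    refine Fin.cases ?_ (fun j => ?_) j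
    · simp
    · simp [Finset.mul_sum, mul_left_comm]

theorem Ay_surj {y : Fin n → k} (hy : y ≠ 0) : Function.Surjective (Ay y) := by
  classical
  obtain ⟨i, hi⟩ := Function.ne_iff.mp hy
  intro w
  refine ⟨Fin.cons (w 0) (Pi.single i ((y i)⁻¹ * w 1)), ?_⟩
  funext j
  refine Fin.cases ?_ (fun j => ?_) j
  · simp [Ay]
  · have h1 : j = 0 := Subsingleton.elim _ _
    subst h1
    have h2 : (Ay y) (Fin.cons (w 0) (Pi.single i ((y i)⁻¹ * w 1))) (Fin.succ 0) =
        ∑ l, y l * (Pi.single i ((y i)⁻¹ * w 1) : Fin n → k) l := by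
      simp [Ay]
    rw [h2, Finset.sum_eq_single i]
    · rw [Pi.single_eq_same, ← mul_assoc, mul_inv_cancel₀ hi, one_mul]
      rfl
    · intro l _ hl
      rw [Pi.single_eq_of_ne hl, mul_zero]
    · intro h; exact absurd (Finset.mem_univ _) h

theorem subst_Ay (y : Fin n → k) : subst (Ay y) = ly y := by
  classical
  apply MvPolynomial.algHom_ext
  intro i
  rw [subst_X, ly, aeval_X]
  refine Fin.cases ?_ (fun i => ?_) i
  · rw [Fin.cons_zero]
    simp [lf, Ay, Fin.sum_univ_two]
  · rw [Fin.cons_succ]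
    have h1 : (Ay y) (Pi.single i.succ 1) = ![0, y i] := by
      funext j
      refine Fin.cases ?_ (fun j => ?_) j
      · simp [Ay]
      · have h2 : j = 0 := Subsingleton.elim _ _
        subst h2
        change ∑ l, y l * (Pi.single i.succ (1 : k) : Fin (n + 1) → k) l.succ = y i
        rw [Finset.sum_eq_single i]
        · rw [Pi.single_eq_same, mul_one]
        · intro l _ hl
          rw [Pi.single_eq_of_ne (fun h => hl (Fin.succ_injective _ h)), mul_zero]
        · intro h; exact absurd (Finset.mem_univ _) h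
    rw [h1]
    simp [lf, Fin.sum_univ_two]

/-- The presentation on a line. -/
noncomputable def lineP {E : (PP n k).Modules} {ι J : Type} [Fintype ι] {m m' : ℤ} {D : ℕ} (P : EqP E ι J m m' D)
    {N : ℕ} (A : (Fin (n + 1) → k) →ₗ[k] (Fin (N + 1) → k)) (hA : Function.Surjective A) :
    EqP (n := N) (k := k) (restE A hA E) ι J m m' D :=
  P.pull (gr A) (Groth.Agent.Sga5.ProjSurj.irrelevant_le_map (degSurj hA))
    (Groth.Agent.PerfB.TwistDer.coveredByOne n k)

theorem lineP_g {E : (PP n k).Modules} {ι J : Type} [Fintype ι] {m m' : ℤ} {D : ℕ} (P : EqP E ι J m m' D)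
    {N : ℕ} (A : (Fin (n + 1) → k) →ₗ[k] (Fin (N + 1) → k)) (hA : Function.Surjective A) (j : J) :
    ((lineP P A hA).g j).1 = subst A (P.g j).1 := rfl

theorem lineP_q {E : (PP n k).Modules} {ι J : Type} [Fintype ι] {m m' : ℤ} {D : ℕ} (P : EqP E ι J m m' D)
    {N : ℕ} (A : (Fin (n + 1) → k) →ₗ[k] (Fin (N + 1) → k)) (hA : Function.Surjective A) (b : ι) (j : J) (c : ι) :
    ((lineP P A hA).q b j c).1 = subst A (P.q b j c).1 := rfl

theorem exists_G [IsAlgClosed k] {E : (PP n k).Modules} {ι J : Type} [Fintype ι] [Fintype J] [DecidableEq ι]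
    [DecidableEq J] {m m' : ℤ} {D : ℕ} (P : EqP E ι J m m' D) {T : Type} [Fintype T] {a : T → ℤ} {b₀ : ℤ} {e : ℕ}
    (hb : b₀ + e = m') (ha : ∀ j, a j ≤ b₀) (hm : ∀ j, m ≤ a j) (hn : 2 ≤ n) (hT : Fintype.card T < n)
    (H : ∀ (A : (Fin (n + 1) → k) →ₗ[k] (Fin (1 + 1) → k)) (hA : Function.Surjective A),
      Nonempty (Spl (n := 1) (k := k) (restE A hA E) a)) :
    ∃ G : Fin (Nat.card {j : T // a j = b₀}) → J → ι → MvPolynomial (Fin (n + 1)) k,
      (∀ l j c, (G l j c).IsHomogeneous e) ∧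
      (∀ l, IsSol (fun j => (P.g j).1) (fun b j c => (P.q b j c).1) (G l)) ∧
      ∀ p : Fin (n + 1) → k, p ≠ 0 → LinearIndependent k fun l => (fun j c => eval p (G l j c)) := by
  have hG : ∀ (y : Fin n → k) (hy : y ≠ 0) (j : J), ((lineP P (Ay y) (Ay_surj hy)).g j).1 = ly y (P.g j).1 :=
    fun y hy j => by rw [lineP_g, subst_Ay]
  have hQ : ∀ (y : Fin n → k) (hy : y ≠ 0) (b : ι) (j : J) (c : ι),
      ((lineP P (Ay y) (Ay_surj hy)).q b j c).1 = ly y (P.q b j c).1 :=
    fun y hy b j c => by rw [lineP_q, subst_Ay]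
  have hSol : ∀ (y : Fin n → k) (hy : y ≠ 0),
      K790.LineMain.Sol (fun j => (P.g j).1) (fun b j c => (P.q b j c).1) e y =
      SolG (fun j => ((lineP P (Ay y) (Ay_surj hy)).g j).1)
        (fun b j c => ((lineP P (Ay y) (Ay_surj hy)).q b j c).1) e := by
    intro y hy
    have h1 : (fun j => ((lineP P (Ay y) (Ay_surj hy)).g j).1) = fun j => ly y (P.g j).1 := funext (hG y hy)
    have h2 : (fun b j c => ((lineP P (Ay y) (Ay_surj hy)).q b j c).1) = fun b j c => ly y (P.q b j c).1 :=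
      funext fun b => funext fun j => funext fun c => hQ y hy b j c
    rw [h1, h2]
    rfl
  have hev : ∀ (y : Fin n → k) (f : MvPolynomial (Fin (n + 1)) k), eval ![1, 0] (ly y f) =
      eval (Fin.cons 1 0 : Fin (n + 1) → k) f := by
    intro y f
    rw [eval_ly]
    congr 2
    funext i
    refine Fin.cases ?_ (fun i => ?_) i
    · simp
    · simp
  have hn0 : 0 < n := by omega
  let y₀ : Fin n → k := fun _ => 1
  have hy₀ : y₀ ≠ 0 := fun h => one_ne_zero (congrFun h ⟨0, hn0⟩)
  refine K790.LineMain.main (m := e) (M := D) hn (Nat.card {j : T // a j = b₀}) (fun j => (P.g j).2)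
    (fun b j c => (P.q b j c).2) ?_ ?_
    (PtSol (fun j => eval (Fin.cons 1 0 : Fin (n + 1) → k) (P.g j).1)
      (fun b j c => eval (Fin.cons 1 0 : Fin (n + 1) → k) (P.q b j c).1)) ?_ ?_
  · intro y hy
    obtain ⟨S⟩ := H (Ay y) (Ay_surj hy)
    rw [hSol y hy]
    exact finrank_sol (lineP P (Ay y) (Ay_surj hy)) S hb le_rfl ha
  · intro y hy v hv p hp h
    obtain ⟨S⟩ := H (Ay y) (Ay_surj hy)
    rw [hSol y hy] at hv
    exact no_zero (lineP P (Ay y) (Ay_surj hy)) S hb le_rfl ha hm hv hp h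
  · intro y hy v hv
    have h1 := hv.2.map (eval ![1, 0])
    simp only [hev] at h1
    exact h1
  · left
    obtain ⟨S⟩ := H (Ay y₀) (Ay_surj hy₀)
    have h1 := finrank_ptSol (lineP P (Ay y₀) (Ay_surj hy₀)) S hm
      (fun j => (ha j).trans (by omega)) (p := ![1, 0]) (fun h => one_ne_zero (congrFun h 0))
    have h2 : (fun j => eval ![1, 0] ((lineP P (Ay y₀) (Ay_surj hy₀)).g j).1) =
        fun j => eval (Fin.cons 1 0 : Fin (n + 1) → k) (P.g j).1 := funext fun j =>
      (congrArg (eval ![1, 0]) (hG y₀ hy₀ j)).trans (hev _ _)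
    have h3 : (fun b j c => eval ![1, 0] ((lineP P (Ay y₀) (Ay_surj hy₀)).q b j c).1) =
        fun b j c => eval (Fin.cons 1 0 : Fin (n + 1) → k) (P.q b j c).1 :=
      funext fun b => funext fun j => funext fun c =>
        (congrArg (eval ![1, 0]) (hQ y₀ hy₀ b j c)).trans (hev _ _)
    rw [h2, h3] at h1
    exact h1.trans_lt hT

end K790.LineApp
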