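import Groth.Agent.VBPn.K790.Coker
import Groth.Agent.VBPn.K790.EqpEx
import Groth.Agent.VBPn.K699.LinForm
import Groth.Agent.VBPn.K699.RankOO
import Mathlib.RingTheory.Nullstellensatz
import Mathlib.LinearAlgebra.Matrix.Rank

/-!
# The cokernel of a locally split map `O(b)^κ → E` given by forms
-/

set_option autoImplicit false
universe u

open CategoryTheory CategoryTheory.Limits AlgebraicGeometry Opposite TopologicalSpace TopCat
open Groth.Agent Groth.Agent.Sga67.Sec Groth.Agent.Sga67.LocBasis K699.TwHom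
open Groth.Agent.VarietyB.TwistMul K698.Val K698.Pl Groth.Agent.Ega3A.TwistBC MvPolynomial

namespace K790.VB

open K790.LineSys K790.Eqp

attribute [local instance] CategoryTheory.Limits.HasFiniteBiproducts.of_hasFiniteProducts

variable {n : ℕ} {k : Type u} [Field k]

theorem mem_basicOpen_of_isUnit {U : (PP n k).Opens} (c : Γ(PP n k, U)) (x : Pt n k) (hx : x ∈ U)
    (h : IsUnit (valO c x hx)) : x ∈ (PP n k).basicOpen c := by
  refine ((PP n k).mem_basicOpen c x hx).mpr ?_
  have h1 : IsUnit ((Subtype.val (show Twist.O (𝒜 := gr n k) (op U) from c) ⟨x, hx⟩)) :=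
    (HomogeneousLocalization.isUnit_iff_isUnit_val (𝒜 := gr n k) (𝔭 := x.asHomogeneousIdeal.toIdeal) _).mp h
  have h2 := stalkToFiberRingHom_germ (gr n k) U x hx c
  have h3 : IsUnit ((Proj.stalkIso' (gr n k) x) ((ProjectiveSpectrum.Proj.structureSheaf (gr n k)).presheaf.germ U x hx c)) := by
    refine Eq.mpr ?_ h1
    rw [← h2]
    rfl
  exact (MulEquiv.isUnit_map (Proj.stalkIso' (gr n k) x)).mp h3

theorem exists_minor_of_li {K : Type*} [Field K] {κ : ℕ} {C : Type} [Fintype C] (R : Fin κ → C → K)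
    (hR : LinearIndependent K R) : ∃ c : Fin κ → C, (Matrix.of fun l l' => R l (c l')).det ≠ 0 := by
  classical
  let M : Matrix (Fin κ) C K := Matrix.of R
  have h1 : M.rank = κ := by
    have h2 : LinearIndependent K M.row := hR
    rw [h2.rank_matrix, Fintype.card_fin]
  rw [Matrix.rank_eq_finrank_span_cols] at h1
  obtain ⟨f, hf, -, hli⟩ := Submodule.exists_fun_fin_finrank_span_eq K (Set.range M.col)
  choose c hc using hf
  refine ⟨fun l => c (Fin.cast h1.symm l), ?_⟩
  have h3 : LinearIndependent K (Matrix.of fun l l' => R l (c (Fin.cast h1.symm l'))).col := by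
    have h4 : (Matrix.of fun l l' => R l (c (Fin.cast h1.symm l'))).col = f ∘ Fin.cast h1.symm := by
      funext l'
      rw [Function.comp_apply, ← hc]
      rfl
    rw [h4]
    exact hli.comp _ (Fin.cast_injective _)
  rw [Matrix.linearIndependent_cols_iff_isUnit, Matrix.isUnit_iff_isUnit_det] at h3
  exact h3.ne_zero

/-- A matrix of forms of maximal rank at all rational points has a nonvanishing minor at every point. -/
theorem exists_minor [IsAlgClosed k] {κ : ℕ} {C : Type} [Fintype C]
    (G : Fin κ → C → MvPolynomial (Fin (n + 1)) k)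
    (hG : ∀ p : Fin (n + 1) → k, p ≠ 0 → LinearIndependent k fun l => fun c => eval p (G l c)) (x : Pt n k) :
    ∃ c : Fin κ → C, (Matrix.of fun l l' => G l (c l')).det ∉ x.asHomogeneousIdeal := by
  by_contra hcon
  push Not at hcon
  obtain ⟨j, hj⟩ := K790.EqpEx.nz_aux (D := 1) x
  rw [pow_one] at hj
  have h1 : (X j : MvPolynomial (Fin (n + 1)) k) ∉ x.asHomogeneousIdeal.toIdeal.radical := by
    rw [x.isPrime.radical]
    exact hj
  rw [← vanishingIdeal_zeroLocus_eq_radical (K := k)] at h1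
  simp only [mem_vanishingIdeal_iff] at h1
  push Not at h1
  obtain ⟨p, hp, hpj⟩ := h1
  rw [aeval_X] at hpj
  have hp0 : p ≠ 0 := fun h => hpj (congrFun h j)
  obtain ⟨c, hc⟩ := exists_minor_of_li _ (hG p hp0)
  apply hc
  have h2 := hp _ (hcon c)
  rw [aeval_eq_eval, RingHom.map_det] at h2
  exact h2

theorem isLocBasis_sum (κ : ℕ) {U : (PP n k).Opens} (f : gr n k 1) (b₀ : ℤ)
    (hU : ∀ x ∈ U, f.1 ∉ (x : Pt n k).asHomogeneousIdeal) :
    IsLocBasis (fun l : Fin κ => appS (biproduct.ι (fun _ : Fin κ => OO n k b₀) l) U (pw f b₀ U hU)) := by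
  intro V hV
  have h1 := K699.RankOO.bijective_comb (fun _ : Fin κ => OO n k b₀) V (fun _ => res (OO n k b₀) hV (pw f b₀ U hU))
    (fun _ => Ega2.TwistInv.isGen_powSec f b₀ U hU V hV)
  have h2 : ⇑(comb (fun l : Fin κ => appS (biproduct.ι (fun _ : Fin κ => OO n k b₀) l) U (pw f b₀ U hU)) hV) =
      fun a : Fin κ → Γ(PP n k, V) => ∑ i, a i • appS (biproduct.ι (fun _ : Fin κ => OO n k b₀) i) V
        (res (OO n k b₀) hV (pw f b₀ U hU)) := by
    funext a
    rw [comb_apply]
    exact Finset.sum_congr rfl fun i _ => by rw [appS_res]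
  rw [h2]
  exact h1

/-- Where a maximal minor does not vanish the map given by the forms is locally split. -/
theorem local_split {E : (PP n k).Modules} {r : ℕ} (hE : FlatMod.IsFinLocFreeOfRank r E) {ι J : Type} [Fintype ι]
    {m m' : ℤ} {D : ℕ} (P : EqP E ι J m m' D) {b₀ : ℤ} {e : ℕ} (hb : b₀ + e = m') {κ : ℕ}
    (G : Fin κ → J → ι → gr n k e) (v : Fin κ → (OO n k b₀ ⟶ E))
    (hv : ∀ l j c, v l ≫ P.w j c = mulMap (G l j c) hb) (x : Pt n k) (c : Fin κ → J × ι)
    (hc : (Matrix.of fun l l' => (G l (c l').1 (c l').2).1).det ∉ x.asHomogeneousIdeal) :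
    ∃ (U : (PP n k).Opens) (o : Fin κ → Sec (⨁ fun _ : Fin κ => OO n k b₀) U) (c' : ℕ) (e' : Fin c' → Sec E U),
      x ∈ U ∧ κ + c' = r ∧ IsLocBasis o ∧ IsLocBasis (Sum.elim (fun l => appS (biproduct.desc v) U (o l)) e') := by
  classical
  obtain ⟨U₁, hx₁, b₁, hb₁⟩ := (Krr.H487.KerRank.isFinLocFreeOfRank_iff E).mp hE x
  obtain ⟨f, W, hxW, hW⟩ := exists_chart (n := n) (R := k) x
  let U : (PP n k).Opens := U₁ ⊓ W
  have hxU : x ∈ U := ⟨hx₁, hxW⟩
  have hU : ∀ y ∈ U, f.1 ∉ (y : Pt n k).asHomogeneousIdeal := fun y hy => hW y hy.2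
  let b : Fin r → Sec E U := fun i => res E inf_le_left (b₁ i)
  have hbb : IsLocBasis b := hb₁.restrict inf_le_left
  let t := pw f b₀ U hU
  let t' := pw f (-m') U hU
  let s : Fin κ → Sec E U := fun l => appS (v l) U t
  choose A hA using fun l => (hbb U le_rfl).2 (s l)
  have hA' : ∀ l, s l = ∑ i, A l i • b i := by
    intro l
    rw [← hA l, comb_apply]
    exact Finset.sum_congr rfl fun i _ => by rw [res_self]
  have h0 : m' + (-m') = 0 := by ring
  choose B _ hB using fun (i : Fin r) (l' : Fin κ) => K790.EqpEx.exists_fun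
    (mulL h0 U (appS (P.w (c l').1 (c l').2) U (b i)) t')
  have hval : ∀ (l l' : Fin κ) (y : Pt n k) (hy : y ∈ U),
      valO (((Matrix.of A) * (Matrix.of B)) l l') y hy =
        al y (G l (c l').1 (c l').2).1 * (val t y hy * val t' y hy) := by
    intro l l' y hy
    have h1 : ∀ i, valO (B i l') y hy = val (appS (P.w (c l').1 (c l').2) U (b i)) y hy * val t' y hy := fun i =>
      (hB i l' y hy).trans (val_mulL _ _ _ _ _)
    have h2 : valO (((Matrix.of A) * (Matrix.of B)) l l') y hy = ∑ i, valO (A l i) y hy * valO (B i l') y hy := by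
      rw [← valOHom_apply, Matrix.mul_apply, map_sum]
      exact Finset.sum_congr rfl fun i _ => map_mul _ _ _
    have h3 : val (appS (P.w (c l').1 (c l').2) U (s l)) y hy =
        ∑ i, valO (A l i) y hy * val (appS (P.w (c l').1 (c l').2) U (b i)) y hy := by
      rw [hA', map_sum, val_sum]
      exact Finset.sum_congr rfl fun i _ => by rw [map_smul, val_smul]
    have h4 : val (appS (P.w (c l').1 (c l').2) U (s l)) y hy = al y (G l (c l').1 (c l').2).1 * val t y hy := by
      have h5 : appS (P.w (c l').1 (c l').2) U (s l) = appS (v l ≫ P.w (c l').1 (c l').2) U t := rfl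
      rw [h5, hv, val_mulMap]
    rw [h2, ← mul_assoc, ← h4, h3, Finset.sum_mul]
    exact Finset.sum_congr rfl fun i _ => by rw [h1, mul_assoc]
  have hdet : x ∈ (PP n k).basicOpen ((Matrix.of A) * (Matrix.of B)).det := by
    apply mem_basicOpen_of_isUnit _ x hxU
    have h1 : valO ((Matrix.of A) * (Matrix.of B)).det x hxU =
        (val t x hxU * val t' x hxU) ^ κ * al x (Matrix.of fun l l' => (G l (c l').1 (c l').2).1).det := by
      rw [← valOHom_apply, RingHom.map_det, RingHom.map_det, RingHom.mapMatrix_apply, RingHom.mapMatrix_apply]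
      have h2 : ((Matrix.of A) * (Matrix.of B)).map (valOHom U x hxU) = (val t x hxU * val t' x hxU) •
          (Matrix.of fun l l' => (G l (c l').1 (c l').2).1).map (al x) := by
        ext l l'
        refine (hval l l' x hxU).trans ?_
        rw [Matrix.smul_apply, smul_eq_mul, mul_comm]
        rfl
      rw [h2, Matrix.det_smul, Fintype.card_fin]
    rw [h1]
    have h3 : IsUnit (al x (Matrix.of fun l l' => (G l (c l').1 (c l').2).1).det) :=
      (IsLocalization.AtPrime.isUnit_to_map_iff _ x.asHomogeneousIdeal.toIdeal _).mpr hc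
    exact (((isUnit_val_pw f b₀ hU x hxU).mul (isUnit_val_pw f (-m') hU x hxU)).pow κ).mul h3
  obtain ⟨V, hVU, c', e', hxV, hcard, hbas⟩ := K790.Coker.exists_extend hbb hxU s (Matrix.of A) hA' (Matrix.of B) hdet
  have hfV : ∀ y ∈ V, f.1 ∉ (y : Pt n k).asHomogeneousIdeal := fun y hy => hU y (hVU hy)
  refine ⟨V, fun l => appS (biproduct.ι (fun _ : Fin κ => OO n k b₀) l) V (pw f b₀ V hfV), c', e', hxV, hcard,
    isLocBasis_sum κ f b₀ hfV, ?_⟩
  have h5 : (fun l => appS (biproduct.desc v) V (appS (biproduct.ι (fun _ : Fin κ => OO n k b₀) l) V (pw f b₀ V hfV))) =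
      fun l => res E hVU (s l) := by
    funext l
    rw [← appS_comp, biproduct.ι_desc, ← appS_res]
    rfl
  rw [h5]
  exact hbas

end K790.VB
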