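import Groth.Agent.VBPn.K790.LineApp
import Groth.Agent.VBPn.K790.VB

/-!
# The cokernel of the maximal part of a split bundle
-/

set_option autoImplicit false
universe u

open CategoryTheory CategoryTheory.Limits AlgebraicGeometry Opposite TopologicalSpace TopCat
open Groth.Agent Groth.Agent.Sga67.Sec Groth.Agent.Sga67.LocBasis K699.TwHom
open Groth.Agent.VarietyB.TwistMul K698.Val K698.Pl Groth.Agent.Ega3A.TwistBC MvPolynomial
open K699.GMat (cst exists_cst)

namespace K790.LineCoker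

open K790.LineSys K790.Eqp K790.LineSide K697.Lin K697.LinSeq K790.LineApp

attribute [local instance] CategoryTheory.Limits.HasFiniteBiproducts.of_hasFiniteProducts

theorem coker_pull {C D : Type*} [Category C] [Category D] [Preadditive C] [Preadditive D] {F : C ⥤ D}
    {G : D ⥤ C} [F.Additive] (adj : F ⊣ G) {E Q K : C} (p : E ⟶ Q) {ι : Type} (v : ι → (K ⟶ E))
    (hU : ∀ (Z : C) (h : E ⟶ Z), (∀ l, v l ≫ h = 0) → ∃ h', p ≫ h' = h) (Z : D) (h : F.obj E ⟶ Z)
    (hv : ∀ l, F.map (v l) ≫ h = 0) : ∃ h', F.map p ≫ h' = h := by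
  have hadd := adj.right_adjoint_additive
  obtain ⟨h', hh'⟩ := hU _ (adj.homEquiv _ _ h) (by
    intro l
    rw [← adj.homEquiv_naturality_left, hv]
    exact (adj.homAddEquiv K Z).map_zero)
  refine ⟨(adj.homEquiv _ _).symm h', ?_⟩
  rw [← adj.homEquiv_naturality_left_symm, hh', Equiv.symm_apply_apply]

variable {n : ℕ} {k : Type u} [Field k]

theorem cm_comp {T : Type} {a : T → ℤ} {b₀ : ℤ} (l : {j : T // a j = b₀}) (c d : k) :
    mulMap (cst c) (by simp : b₀ + (0 : ℕ) = b₀) ≫ cm (n := n) (k := k) l d = cm l (c * d) := by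
  apply Sga67.Sec.hom_ext
  intro U s
  apply K698.Val.val_ext
  intro x hx
  rw [appS_comp, val_cm, val_cm, val_mulMap, map_mul, map_mul]
  change _ * (al x (C c) * _) = _
  ring

theorem cm_sum {T : Type} {a : T → ℤ} {b₀ : ℤ} (l : {j : T // a j = b₀}) {ι : Type} (s : Finset ι) (c : ι → k) :
    cm (n := n) (k := k) l (∑ i ∈ s, c i) = ∑ i ∈ s, cm l (c i) := by
  apply Sga67.Sec.hom_ext
  intro U t
  apply K698.Val.val_ext
  intro x hx
  rw [appS_sum, val_sum, val_cm, map_sum, map_sum, Finset.sum_mul]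
  exact Finset.sum_congr rfl fun i _ => (val_cm _ _ _ _ _).symm

theorem epi_cm_one {T : Type} {a : T → ℤ} {b₀ : ℤ} (l : {j : T // a j = b₀}) : Epi (cm (n := n) (k := k) l 1) := by
  obtain ⟨l, rfl⟩ := l
  have h1 : cm (n := n) (k := k) (⟨l, rfl⟩ : {j : T // a j = a l}) 1 = 𝟙 _ := by
    apply Sga67.Sec.hom_ext
    intro U s
    apply K698.Val.val_ext
    intro x hx
    rw [val_cm, map_one, map_one, one_mul, appS_id]
  rw [h1]
  infer_instance

variable {F Q : (PP n k).Modules} {T : Type} [Fintype T] {a : T → ℤ} (S : Spl F a) {b₀ : ℤ}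

include S in
/-- Dividing out the summands of maximal degree. -/
theorem spl_coker (hn : 1 ≤ n) (ha : ∀ j, a j ≤ b₀) {κ : ℕ} (hκ : Nat.card {j : T // a j = b₀} = κ)
    (v : Fin κ → (OO n k b₀ ⟶ F))
    (hli : ∀ d : Fin κ → k, ∑ l, mulMap (cst (d l)) (by simp : b₀ + (0 : ℕ) = b₀) ≫ v l = 0 → d = 0)
    (p : F ⟶ Q) (hp : ∀ l, v l ≫ p = 0) (hepi : Epi p)
    (hU : ∀ (Z : (PP n k).Modules) (h : F ⟶ Z), (∀ l, v l ≫ h = 0) → ∃ h', p ≫ h' = h) :
    Nonempty (Spl Q (fun j : {j : T // a j ≠ b₀} => a j.1)) := by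
  classical
  choose c hc1 hc2 hc3 using fun l => decomp' S hn ha (v l)
  let σ : Fin κ ≃ {j : T // a j = b₀} :=
    (finCongr (hκ.symm.trans Nat.card_eq_fintype_card)).trans (Fintype.equivFin _).symm
  let M : Matrix (Fin κ) (Fin κ) k := Matrix.of fun l l' => c l (σ l')
  have hM : LinearIndependent k M.row := by
    rw [Fintype.linearIndependent_iff]
    intro d hd
    have h1 : ∀ j : {j : T // a j = b₀}, ∑ l, d l * c l j = 0 := by
      intro j
      have h2 := congrFun hd (σ.symm j)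
      rw [Finset.sum_apply] at h2
      have h3 : ∀ l, (d l • M.row l) (σ.symm j) = d l * c l j := fun l => by
        change d l * c l (σ (σ.symm j)) = _
        rw [Equiv.apply_symm_apply]
      rw [Finset.sum_congr rfl fun l _ => h3 l] at h2
      exact h2
    have h4 : ∑ l, mulMap (cst (d l)) (by simp : b₀ + (0 : ℕ) = b₀) ≫ v l = 0 := by
      have h5 : ∀ l, mulMap (cst (d l)) (by simp : b₀ + (0 : ℕ) = b₀) ≫ v l =
          ∑ j : {j : T // a j = b₀}, cm j (d l * c l j) ≫ S.ρ j.1 := by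
        intro l
        conv_lhs => rw [hc3 l]
        rw [Preadditive.comp_sum]
        exact Finset.sum_congr rfl fun j _ => by rw [← Category.assoc, cm_comp]
      rw [Finset.sum_congr rfl fun l _ => h5 l, Finset.sum_comm]
      refine Finset.sum_eq_zero fun j _ => ?_
      rw [← Preadditive.sum_comp, ← cm_sum, h1, cm_zero, zero_comp]
    exact fun l => congrFun (hli d h4) l
  rw [Matrix.linearIndependent_rows_iff_isUnit, Matrix.isUnit_iff_isUnit_det] at hM
  have hinv : M⁻¹ * M = 1 := Matrix.nonsing_inv_mul _ hM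
  have hρ : ∀ (j : {j : T // a j = b₀}) (Z : (PP n k).Modules) (h : F ⟶ Z), (∀ l, v l ≫ h = 0) → S.ρ j.1 ≫ h = 0 := by
    intro j Z h hv
    have h1 : cm j 1 ≫ S.ρ j.1 = ∑ l, mulMap (cst (M⁻¹ (σ.symm j) l)) (by simp : b₀ + (0 : ℕ) = b₀) ≫ v l := by
      have h5 : ∀ l, mulMap (cst (M⁻¹ (σ.symm j) l)) (by simp : b₀ + (0 : ℕ) = b₀) ≫ v l =
          ∑ j' : {j : T // a j = b₀}, cm j' (M⁻¹ (σ.symm j) l * c l j') ≫ S.ρ j'.1 := by
        intro l
        conv_lhs => rw [hc3 l]
        rw [Preadditive.comp_sum]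
        exact Finset.sum_congr rfl fun j' _ => by rw [← Category.assoc, cm_comp]
      rw [Finset.sum_congr rfl fun l _ => h5 l, Finset.sum_comm, Finset.sum_eq_single j]
      · rw [← Preadditive.sum_comp, ← cm_sum]
        congr 2
        have h6 := congrFun (congrFun hinv (σ.symm j)) (σ.symm j)
        rw [Matrix.mul_apply, Matrix.one_apply_eq] at h6
        rw [← h6]
        refine Finset.sum_congr rfl fun l _ => ?_
        change M⁻¹ (σ.symm j) l * c l (σ (σ.symm j)) = _
        rw [Equiv.apply_symm_apply]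
      · intro j' _ hj'
        rw [← Preadditive.sum_comp, ← cm_sum]
        have h6 := congrFun (congrFun hinv (σ.symm j)) (σ.symm j')
        rw [Matrix.mul_apply, Matrix.one_apply_ne (fun h => hj' (σ.symm.injective h).symm)] at h6
        have h7 : ∑ l, M⁻¹ (σ.symm j) l * c l j' = 0 := by
          rw [← h6]
          refine Finset.sum_congr rfl fun l _ => ?_
          change _ = M⁻¹ (σ.symm j) l * c l (σ (σ.symm j'))
          rw [Equiv.apply_symm_apply]
        rw [h7, cm_zero, zero_comp]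
      · intro h; exact absurd (Finset.mem_univ _) h
    have h2 : cm j 1 ≫ S.ρ j.1 ≫ h = 0 := by
      rw [← Category.assoc, h1, Preadditive.sum_comp]
      refine Finset.sum_eq_zero fun l _ => ?_
      rw [Category.assoc, hv, comp_zero]
    have := epi_cm_one (n := n) (k := k) j
    rw [← cancel_epi (cm (n := n) (k := k) j 1), h2, comp_zero]
  choose π' hπ' using fun j : {j : T // a j ≠ b₀} => hU _ (S.π j.1) fun l => hc2 l j.1 j.2
  refine ⟨⟨fun j => S.ρ j.1 ≫ p, π', fun j => ?_, fun j l hjl => ?_, ?_⟩⟩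
  · rw [Category.assoc, hπ', S.self]
  · rw [Category.assoc, hπ', S.ne _ _ fun h => hjl (Subtype.ext h)]
  · rw [← cancel_epi p, Preadditive.comp_sum, Category.comp_id]
    have h1 : ∀ j : {j : T // a j ≠ b₀}, p ≫ π' j ≫ S.ρ j.1 ≫ p = (S.π j.1 ≫ S.ρ j.1) ≫ p := fun j => by
      rw [← Category.assoc, hπ', Category.assoc]
    rw [Finset.sum_congr rfl fun j _ => h1 j]
    have h2 : p = ∑ j, (S.π j ≫ S.ρ j) ≫ p := by
      rw [← Preadditive.sum_comp, S.tot, Category.id_comp]
    conv_rhs => rw [h2]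
    have h3 : ∑ j, (S.π j ≫ S.ρ j) ≫ p = ∑ j ∈ Finset.univ.filter (fun j => a j ≠ b₀), (S.π j ≫ S.ρ j) ≫ p := by
      refine (Finset.sum_subset (Finset.filter_subset _ _) fun j _ hj => ?_).symm
      have h4 : a j = b₀ := by simpa using hj
      rw [Category.assoc, hρ ⟨j, h4⟩ Q p hp, comp_zero]
    rw [h3, Finset.sum_subtype (p := fun j => a j ≠ b₀) (Finset.univ.filter (fun j => a j ≠ b₀)) (fun x => by simp)
      fun j => (S.π j ≫ S.ρ j) ≫ p]

/-- The value of a substituted form. -/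
theorem eval_subst {N : ℕ} (A : (Fin (n + 1) → k) →ₗ[k] (Fin (N + 1) → k)) (q : Fin (N + 1) → k)
    (f : MvPolynomial (Fin (n + 1)) k) :
    eval q (subst A f) = eval (fun i => eval q (lf (A (Pi.single i 1)))) f := by
  rw [subst, ← aeval_eq_eval, ← aeval_eq_eval, ← AlgHom.comp_apply]
  congr 1
  apply MvPolynomial.algHom_ext
  intro i
  rw [AlgHom.comp_apply, aeval_X, aeval_X]

theorem exists_pt_ne {N : ℕ} (A : (Fin (n + 1) → k) →ₗ[k] (Fin (N + 1) → k)) (hA : Function.Surjective A) :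
    ∃ q : Fin (N + 1) → k, (fun i => eval q (lf (A (Pi.single i 1)))) ≠ (0 : Fin (n + 1) → k) := by
  classical
  refine ⟨Pi.single 0 1, fun h => ?_⟩
  obtain ⟨w, hw⟩ := hA (Pi.single 0 1)
  have h1 : ∀ i, A (Pi.single i 1) 0 = 0 := by
    intro i
    have h2 := congrFun h i
    simp only [lf, map_sum, map_mul, eval_C, eval_X, Pi.zero_apply] at h2
    rw [Finset.sum_eq_single 0] at h2
    · simpa using h2
    · intro j _ hj
      rw [Pi.single_eq_of_ne hj, mul_zero]
    · intro h; exact absurd (Finset.mem_univ _) h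
  have h3 : w = ∑ i, w i • (Pi.single i (1 : k) : Fin (n + 1) → k) := by
    funext j
    simp [Finset.sum_apply, Pi.single_apply]
  have h4 := congrFun hw 0
  rw [h3, map_sum, Finset.sum_apply, Pi.single_eq_same] at h4
  simp only [map_smul, Pi.smul_apply, h1, smul_zero, Finset.sum_const_zero] at h4
  exact zero_ne_one h4

section Pull

variable (φ : gr n k →+*ᵍ gr 1 k) (hφ : HomogeneousIdeal.irrelevant (gr 1 k) ≤ (HomogeneousIdeal.irrelevant (gr n k)).map φ)
  (hcov : Ega2.TwistInv.CoveredByOne (gr n k))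
  {E : (PP n k).Modules} {ι J : Type} [Fintype ι] {m m' : ℤ} {D : ℕ} (P : EqP E ι J m m' D)
  {b₀ : ℤ}

/-- The pulled back map. -/
noncomputable def pv (v : OO n k b₀ ⟶ E) : OO 1 k b₀ ⟶ (Scheme.Modules.pullback (Proj.map φ hφ)).obj E :=
  (pullO φ hφ hcov b₀).inv ≫ (Scheme.Modules.pullback (Proj.map φ hφ)).map v

theorem pv_w (v : OO n k b₀ ⟶ E) {e : ℕ} (hb : b₀ + e = m') (j : J) (c : ι) (g : gr n k e)
    (h : v ≫ P.w j c = mulMap g hb) :
    pv φ hφ hcov v ≫ (P.pull φ hφ hcov).w j c = mulMap (mapForm φ g) hb := by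
  change ((pullO φ hφ hcov b₀).inv ≫ (Scheme.Modules.pullback (Proj.map φ hφ)).map v) ≫
    (Scheme.Modules.pullback (Proj.map φ hφ)).map (P.w j c) ≫ (pullO φ hφ hcov m').hom = _
  rw [Category.assoc, ← Category.assoc ((Scheme.Modules.pullback (Proj.map φ hφ)).map v), ← Functor.map_comp, h,
    map_mulMap φ hφ hcov]
  simp

theorem pv_comp {Q : (PP n k).Modules} (v : OO n k b₀ ⟶ E) (p : E ⟶ Q) :
    pv φ hφ hcov v ≫ (Scheme.Modules.pullback (Proj.map φ hφ)).map p = pv φ hφ hcov (v ≫ p) := by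
  rw [pv, pv, Category.assoc, Functor.map_comp]

theorem map_comp_eq_zero (v : OO n k b₀ ⟶ E) {Z : (PP 1 k).Modules}
    (h : (Scheme.Modules.pullback (Proj.map φ hφ)).obj E ⟶ Z) (hv : pv φ hφ hcov v ≫ h = 0) :
    (Scheme.Modules.pullback (Proj.map φ hφ)).map v ≫ h = 0 := by
  rw [pv, Category.assoc] at hv
  rw [← cancel_epi (pullO φ hφ hcov b₀).inv, hv, comp_zero]

include hcov in
/-- The quotient of a uniform bundle by its maximal part is uniform. -/
theorem spl_pull [Finite J] {e : ℕ} (hb : b₀ + e = m') {κ : ℕ} (G : Fin κ → J → ι → gr n k e)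
    (v : Fin κ → (OO n k b₀ ⟶ E)) (hv : ∀ l j c, v l ≫ P.w j c = mulMap (G l j c) hb)
    (hG : ∀ p : Fin (n + 1) → k, p ≠ 0 → LinearIndependent k fun l => (fun j c => eval p (G l j c).1))
    (hpt : ∃ (q : Fin 2 → k) (p : Fin (n + 1) → k), p ≠ 0 ∧ ∀ f, eval q (φ f) = eval p f)
    {T : Type} [Fintype T] {a : T → ℤ} (ha : ∀ j, a j ≤ b₀) (hκ : Nat.card {j : T // a j = b₀} = κ)
    (S : Spl (n := 1) (k := k) ((Scheme.Modules.pullback (Proj.map φ hφ)).obj E) a) :
    Nonempty (Spl (n := 1) (k := k)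
      ((Scheme.Modules.pullback (Proj.map φ hφ)).obj (cokernel (biproduct.desc v)))
      (fun j : {j : T // a j ≠ b₀} => a j.1)) := by
  have hadd := pullback_additive (Proj.map φ hφ)
  refine spl_coker S le_rfl ha hκ (fun l => pv φ hφ hcov (v l)) ?_
    ((Scheme.Modules.pullback (Proj.map φ hφ)).map (cokernel.π (biproduct.desc v))) ?_ ?_ ?_
  · intro d hd
    obtain ⟨q, p, hp, hq⟩ := hpt
    have hli := Fintype.linearIndependent_iff.mp (hG _ hp) d
    funext l
    refine hli ?_ l
    funext j c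
    rw [Finset.sum_apply, Finset.sum_apply]
    have h1 : ∑ l, C (d l) * φ (G l j c).1 = 0 := by
      refine al_eq_of_mulMap_eq (m := b₀) fun U s x hx => ?_
      have h2 := congrArg (fun f : OO 1 k b₀ ⟶ (Scheme.Modules.pullback (Proj.map φ hφ)).obj E =>
        val (appS (f ≫ (P.pull φ hφ hcov).w j c) U s) x hx) hd
      simp only [Preadditive.sum_comp, Category.assoc, appS_sum, val_sum, zero_comp, appS_zero, val_zero] at h2
      rw [map_zero, zero_mul, ← h2, map_sum, Finset.sum_mul]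
      refine Finset.sum_congr rfl fun l _ => ?_
      rw [pv_w φ hφ hcov P (v l) hb j c (G l j c) (hv l j c), val_mm]
      rfl
    have h3 := congrArg (eval q) h1
    rw [map_sum, map_zero] at h3
    rw [Pi.zero_apply, Pi.zero_apply, ← h3]
    refine Finset.sum_congr rfl fun l _ => ?_
    rw [map_mul, eval_C, hq]
    rfl
  · intro l
    have h1 : v l ≫ cokernel.π (biproduct.desc v) = 0 := by
      rw [← biproduct.ι_desc v l, Category.assoc, cokernel.condition, comp_zero]
    rw [pv_comp, h1, pv, Functor.map_zero, comp_zero]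
  · have := Functor.preservesEpimorphisms_of_adjunction
      (Scheme.Modules.pullbackPushforwardAdjunction (Proj.map φ hφ))
    infer_instance
  · intro Z h hh
    refine coker_pull (Scheme.Modules.pullbackPushforwardAdjunction (Proj.map φ hφ))
      (cokernel.π (biproduct.desc v)) v ?_ Z h fun l => map_comp_eq_zero φ hφ hcov (v l) h (hh l)
    intro Z h hh
    have h1 : biproduct.desc v ≫ h = 0 := by
      apply biproduct.hom_ext'
      intro l
      rw [← Category.assoc, biproduct.ι_desc, comp_zero]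
      exact hh l
    exact ⟨cokernel.desc _ h h1, cokernel.π_desc _ _ _⟩

end Pull

end K790.LineCoker
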