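import Groth.Agent.VBPn.K790.Eqp
import Groth.Agent.VBPn.K699.LinForm

/-!
# Solution spaces of the presentation equations of a split bundle

For `F ≅ ⊕ O(a_j)` with an equational presentation, `a_j ≤ b₀ = m' - e`: the solutions in forms of degree `e`
have dimension `κ = #{j | a_j = b₀}`, nonzero solutions have no zeros, and the solution space of the
specialised equations at a point has dimension at most the rank.
-/

set_option autoImplicit false
universe u

open CategoryTheory CategoryTheory.Limits AlgebraicGeometry Opposite TopologicalSpace TopCat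
open Groth.Agent Groth.Agent.Sga67.Sec Groth.Agent.Sga67.LocBasis K699.TwHom
open Groth.Agent.VarietyB.TwistMul K698.Val K698.Pl Groth.Agent.Ega3A.TwistBC MvPolynomial

namespace K790.LineSide

open K790.LineSys K790.Eqp
open K699.GMat (cst exists_cst)

variable {n : ℕ} {k : Type u} [Field k]

/-- A splitting. -/
structure Spl (F : (PP n k).Modules) {T : Type} [Fintype T] (a : T → ℤ) where
  ρ : ∀ j, OO n k (a j) ⟶ F
  π : ∀ j, F ⟶ OO n k (a j)
  self : ∀ j, ρ j ≫ π j = 𝟙 _
  ne : ∀ j l, j ≠ l → ρ j ≫ π l = 0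
  tot : ∑ j, π j ≫ ρ j = 𝟙 F

theorem val_mm {i j : ℕ} (a : gr n k i) (b : gr n k j) {m m' m'' : ℤ} (h : m + i = m') (h' : m' + j = m'')
    {U : (PP n k).Opens} (s : Sec (OO n k m) U) (x : Pt n k) (hx : x ∈ U) :
    val (appS (mulMap a h ≫ mulMap b h') U s) x hx = al x (a.1 * b.1) * val s x hx := by
  rw [val_comp_mulMap, val_mulMap, map_mul]
  ring

theorem Spl.decomp {F : (PP n k).Modules} {T : Type} [Fintype T] {a : T → ℤ} (S : Spl F a)
    {M : (PP n k).Modules} (u : M ⟶ F) : u = ∑ j, (u ≫ S.π j) ≫ S.ρ j := by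
  conv_lhs => rw [← Category.comp_id u, ← S.tot, Preadditive.comp_sum]
  exact Finset.sum_congr rfl fun j _ => (Category.assoc _ _ _).symm

/-- The solutions in forms of degree `e`. -/
def SolG {σ : Type} {ι J : Type} [Fintype ι] (g : J → MvPolynomial σ k)
    (q : ι → J → ι → MvPolynomial σ k) (e : ℕ) : Submodule k (J → ι → MvPolynomial σ k) where
  carrier := {v | (∀ j a, (v j a).IsHomogeneous e) ∧ IsSol g q v}
  add_mem' h h' := ⟨fun j a => (h.1 j a).add (h'.1 j a), h.2.add h'.2⟩
  zero_mem' := ⟨fun _ _ => isHomogeneous_zero _ _ _, IsSol.zero⟩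
  smul_mem' c _ h := ⟨fun j a => (homogeneousSubmodule σ k e).smul_mem c (h.1 j a), h.2.smul c⟩

variable {F : (PP n k).Modules} {ι J : Type} [Fintype ι] [Finite J] {m m' : ℤ} {D : ℕ} (P : EqP F ι J m m' D)
  {T : Type} [Fintype T] {a : T → ℤ} (S : Spl F a) {b₀ : ℤ} {e : ℕ} (hb : b₀ + e = m')

include S in
/-- The component of a map `O(b₀) → F` in a summand. -/
theorem comp_eq (hn : 1 ≤ n) (ha : ∀ j, a j ≤ b₀) (u : OO n k b₀ ⟶ F) (j : T) :
    (a j ≠ b₀ ∧ u ≫ S.π j = 0) ∨ ∃ (h : b₀ + (0 : ℕ) = a j) (c : k), u ≫ S.π j = mulMap (cst c) h := by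
  by_cases h : a j = b₀
  · right
    have h0 : b₀ + (0 : ℕ) = a j := by rw [h]; simp
    obtain ⟨c, hc⟩ := exists_mulMap h0 (u ≫ S.π j)
    obtain ⟨c', rfl⟩ := exists_cst c
    exact ⟨h0, c', hc⟩
  · left
    exact ⟨h, hom_eq_zero_of_lt hn (lt_of_le_of_ne (ha j) h) _⟩

/-- The multiplication `O(b₀) → O(a_l)` by a constant, `a_l = b₀`. -/
noncomputable def cm (l : {j : T // a j = b₀}) (c : k) : OO n k b₀ ⟶ OO n k (a l.1) :=
  mulMap (cst c) (show b₀ + (0 : ℕ) = a l.1 by rw [l.2]; simp)

omit [Fintype T] in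
theorem val_cm (l : {j : T // a j = b₀}) (c : k) {U : (PP n k).Opens} (s : Sec (OO n k b₀) U) (x : Pt n k)
    (hx : x ∈ U) : val (appS (cm l c) U s) x hx = al x (C c) * val s x hx := val_mulMap _ _ _ _ _

omit [Fintype T] in
theorem cm_zero (l : {j : T // a j = b₀}) : cm (n := n) (k := k) l 0 = 0 := by
  apply Sga67.Sec.hom_ext
  intro U s
  apply K698.Val.val_ext
  intro x hx
  rw [val_cm, appS_zero, val_zero, map_zero, map_zero, zero_mul]

omit [Fintype T] in
theorem cm_inj (l : {j : T // a j = b₀}) {c c' : k} (h : cm (n := n) (k := k) l c = cm l c') : c = c' := by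
  have h1 := congrArg Subtype.val (mulMap_inj h)
  exact C_injective _ _ h1

include S in
theorem decomp' (hn : 1 ≤ n) (ha : ∀ j, a j ≤ b₀) (u : OO n k b₀ ⟶ F) :
    ∃ c : {j : T // a j = b₀} → k, (∀ l, u ≫ S.π l.1 = cm l (c l)) ∧ (∀ j, a j ≠ b₀ → u ≫ S.π j = 0) ∧
      u = ∑ l : {j : T // a j = b₀}, cm l (c l) ≫ S.ρ l.1 := by
  classical
  have h0 : ∀ j, a j ≠ b₀ → u ≫ S.π j = 0 := fun j hj => by
    rcases comp_eq S hn ha u j with h | ⟨h, -⟩
    · exact h.2
    · exact absurd (by rw [← h]; simp) hj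
  have h1 : ∀ l : {j : T // a j = b₀}, ∃ c : k, u ≫ S.π l.1 = cm l c := fun l => by
    rcases comp_eq S hn ha u l.1 with h | ⟨h, c, hc⟩
    · exact absurd l.2 h.1
    · exact ⟨c, hc⟩
  choose c hc using h1
  refine ⟨c, hc, h0, ?_⟩
  conv_lhs => rw [S.decomp u]
  have h2 : ∑ j, (u ≫ S.π j) ≫ S.ρ j = ∑ j ∈ Finset.univ.filter (fun j => a j = b₀), (u ≫ S.π j) ≫ S.ρ j := by
    refine (Finset.sum_subset (Finset.filter_subset _ _) fun j _ hj => ?_).symm
    rw [h0 j (by simpa using hj), zero_comp]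
  rw [h2, Finset.sum_subtype (p := fun j => a j = b₀) (Finset.univ.filter (fun j => a j = b₀)) (fun x => by simp)
    fun j => (u ≫ S.π j) ≫ S.ρ j]
  exact Finset.sum_congr rfl fun l _ => by rw [hc]

include S hb in
/-- The basis of the space of solutions. -/
theorem finrank_sol (hn : 1 ≤ n) (ha : ∀ j, a j ≤ b₀) :
    Module.finrank k (SolG (fun j => (P.g j).1) (fun b j c => (P.q b j c).1) e) =
      Nat.card {j : T // a j = b₀} := by
  classical
  have h1 : ∀ l : {j : T // a j = b₀}, a l.1 + (e : ℤ) = m' := fun l => by rw [l.2, hb]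
  choose f hf hfsol using fun l : {j : T // a j = b₀} => P.exists_forms (h1 l) (S.ρ l.1)
  have hmem : ∀ l, (fun j c => (f l j c).1) ∈ SolG (fun j => (P.g j).1) (fun b j c => (P.q b j c).1) e :=
    fun l => ⟨fun j c => (f l j c).2, hfsol l⟩
  let fv : {j : T // a j = b₀} → SolG (fun j => (P.g j).1) (fun b j c => (P.q b j c).1) e :=
    fun l => ⟨_, hmem l⟩
  let L : ({j : T // a j = b₀} → k) →ₗ[k] SolG (fun j => (P.g j).1) (fun b j c => (P.q b j c).1) e :=
    Fintype.linearCombination k fv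
  have hL : ∀ (c : {j : T // a j = b₀} → k) j d, (L c : J → ι → MvPolynomial (Fin (n + 1)) k) j d =
      ∑ l, C (c l) * (f l j d).1 := by
    intro c j d
    rw [Fintype.linearCombination_apply, AddSubmonoidClass.coe_finsetSum, Finset.sum_apply, Finset.sum_apply]
    exact Finset.sum_congr rfl fun l _ => by rw [← MvPolynomial.smul_eq_C_mul]; rfl
  have key : ∀ (c : {j : T // a j = b₀} → k) (u : OO n k b₀ ⟶ F), u = ∑ l, cm l (c l) ≫ S.ρ l.1 →
      ∀ j d (U : (PP n k).Opens) (s : Sec (OO n k b₀) U) (x : Pt n k) (hx : x ∈ U),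
        val (appS (u ≫ P.w j d) U s) x hx =
          al x ((L c : J → ι → MvPolynomial (Fin (n + 1)) k) j d) * val s x hx := by
    intro c u hu j d U s x hx
    rw [hu, Preadditive.sum_comp, appS_sum, val_sum, hL, map_sum, Finset.sum_mul]
    refine Finset.sum_congr rfl fun l _ => ?_
    rw [Category.assoc, hf l j d, val_comp_mulMap, val_cm, map_mul]
    ring
  have hinj : Function.Injective L := by
    rw [← LinearMap.ker_eq_bot, LinearMap.ker_eq_bot']
    intro c hc
    have h2 : (∑ l, cm l (c l) ≫ S.ρ l.1 : OO n k b₀ ⟶ F) = 0 := by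
      apply P.hom_eq_zero
      intro j d
      apply Sga67.Sec.hom_ext
      intro U s
      apply K698.Val.val_ext
      intro x hx
      rw [key c _ rfl, hc, appS_zero, val_zero]
      change al x 0 * _ = 0
      rw [map_zero, zero_mul]
    funext l
    have h3 : (∑ l, cm l (c l) ≫ S.ρ l.1 : OO n k b₀ ⟶ F) ≫ S.π l.1 = cm l (c l) := by
      rw [Preadditive.sum_comp, Finset.sum_eq_single l]
      · rw [Category.assoc, S.self, Category.comp_id]
      · intro l' _ hl'
        rw [Category.assoc, S.ne _ _ (fun h => hl' (Subtype.ext h)), comp_zero]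
      · intro h; exact absurd (Finset.mem_univ _) h
    rw [h2, zero_comp] at h3
    exact cm_inj l (h3.symm.trans (cm_zero l).symm)
  have hsurj : Function.Surjective L := by
    rintro ⟨v, hv, hvs⟩
    obtain ⟨u, hu⟩ := P.exists_map hb (fun j d => (⟨v j d, hv j d⟩ : gr n k e)) hvs
    obtain ⟨c, -, -, hc⟩ := decomp' S hn ha u
    refine ⟨c, Subtype.ext (funext fun j => funext fun d => ?_)⟩
    refine al_eq_of_mulMap_eq (m := b₀) fun U s x hx => ?_
    rw [← key c u hc, hu, val_mulMap]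
  rw [← (LinearEquiv.ofBijective L ⟨hinj, hsurj⟩).finrank_eq, Module.finrank_fintype_fun_eq_card,
    Nat.card_eq_fintype_card]

include S hb in
/-- Nonzero solutions have no zeros. -/
theorem no_zero (hn : 1 ≤ n) (ha : ∀ j, a j ≤ b₀) (hm : ∀ j, m ≤ a j)
    {v : J → ι → MvPolynomial (Fin (n + 1)) k}
    (hv : v ∈ SolG (fun j => (P.g j).1) (fun b j c => (P.q b j c).1) e) {p : Fin (n + 1) → k} (hp : p ≠ 0)
    (h : ∀ j c, eval p (v j c) = 0) : v = 0 := by
  obtain ⟨hvh, hvs⟩ := hv
  obtain ⟨u, hu⟩ := P.exists_map hb (fun j d => (⟨v j d, hvh j d⟩ : gr n k e)) hvs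
  obtain ⟨c, hc1, -, hc2⟩ := decomp' S hn ha u
  obtain ⟨j₀, hj₀⟩ := P.nz (K699.LinForm.pt p hp)
  rw [K699.LinForm.mem_pt] at hj₀
  have hc : ∀ l, c l = 0 := by
    intro l
    have h1 : m + ((a l.1 - m).toNat : ℤ) = a l.1 := by have := hm l.1; omega
    choose s hs using fun b => exists_mulMap h1 (P.σ b ≫ S.π l.1)
    have h2 : (b₀ - D) + (D : ℤ) = b₀ := by ring
    have h3 : (b₀ - D) + (e : ℤ) = m := by have := P.hm; omega
    have h4 := P.forms_rel hb u (fun j d => (⟨v j d, hvh j d⟩ : gr n k e)) hu hvs h2 h3 j₀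
    have h5 : (P.g j₀).1 * C (c l) = ∑ b, v j₀ b * (s b).1 := by
      refine al_eq_of_mulMap_eq (m := b₀ - D) fun U t x hx => ?_
      have h6 := congrArg (fun f : OO n k (b₀ - D) ⟶ F => val (appS (f ≫ S.π l.1) U t) x hx) h4
      simp only [Category.assoc, Preadditive.sum_comp] at h6
      rw [hc1 l, appS_sum, val_sum] at h6
      rw [appS_comp, val_cm, val_mulMap] at h6
      rw [map_mul, mul_comm (al x _), mul_assoc, h6, map_sum, Finset.sum_mul]
      refine Finset.sum_congr rfl fun b _ => ?_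
      rw [hs b, val_mm]
    have h6 := congrArg (eval p) h5
    rw [map_mul, eval_C, map_sum] at h6
    simp only [map_mul, h, zero_mul, Finset.sum_const_zero] at h6
    exact (mul_eq_zero.mp h6).resolve_left hj₀
  have hu0 : u = 0 := by
    rw [hc2]
    refine Finset.sum_eq_zero fun l _ => ?_
    rw [hc, cm_zero, zero_comp]
  funext j d
  have h7 := hu j d
  rw [hu0, zero_comp] at h7
  have h8 := mulMap_inj ((h7.symm.trans (mulMap_zero hb).symm))
  exact congrArg Subtype.val h8

/-- The solutions of the specialised equations. -/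
def PtSol {ι J : Type} [Fintype ι] (g : J → k) (q : ι → J → ι → k) : Submodule k (J → ι → k) where
  carrier := {v | IsSol g q v}
  add_mem' h h' := h.add h'
  zero_mem' := IsSol.zero
  smul_mem' c _ h := h.smul c

omit [Finite J] in
include S in
theorem finrank_ptSol (hm : ∀ j, m ≤ a j) (hm' : ∀ j, a j ≤ m') {p : Fin (n + 1) → k} (hp : p ≠ 0) :
    Module.finrank k (PtSol (fun j => eval p (P.g j).1) (fun b j c => eval p (P.q b j c).1)) ≤
      Fintype.card T := by
  obtain ⟨j₀, hj₀⟩ := P.nz (K699.LinForm.pt p hp)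
  rw [K699.LinForm.mem_pt] at hj₀
  have h1 : ∀ l, m + ((a l - m).toNat : ℤ) = a l := fun l => by have := hm l; omega
  have h2 : ∀ l, a l + ((m' - a l).toNat : ℤ) = m' := fun l => by have := hm' l; omega
  choose s hs using fun (b : ι) (l : T) => exists_mulMap (h1 l) (P.σ b ≫ S.π l)
  choose t ht using fun (l : T) (j : J) (c : ι) => exists_mulMap (h2 l) (S.ρ l ≫ P.w j c)
  have hq : ∀ b j c, (P.q b j c).1 = ∑ l, (s b l).1 * (t l j c).1 := by
    intro b j c
    refine al_eq_of_mulMap_eq (m := m) fun U r x hx => ?_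
    have h3 : P.σ b ≫ P.w j c = ∑ l, (P.σ b ≫ S.π l) ≫ (S.ρ l ≫ P.w j c) := by
      conv_lhs => rw [S.decomp (P.σ b), Preadditive.sum_comp]
      exact Finset.sum_congr rfl fun l _ => Category.assoc _ _ _
    have h4 := congrArg (fun f : OO n k m ⟶ OO n k m' => val (appS f U r) x hx) ((P.sw b j c).symm.trans h3)
    simp only [appS_sum, val_sum, val_mulMap] at h4
    rw [h4, map_sum, Finset.sum_mul]
    refine Finset.sum_congr rfl fun l _ => ?_
    rw [hs, ht, val_mm]
  let W : Submodule k (J → ι → k) := Submodule.span k (Set.range fun l : T => fun j c => eval p (t l j c).1)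
  have hW : PtSol (fun j => eval p (P.g j).1) (fun b j c => eval p (P.q b j c).1) ≤ W := by
    intro v hv
    have h5 : v = ∑ l, ((eval p (P.g j₀).1)⁻¹ * ∑ b, v j₀ b * eval p (s b l).1) •
        (fun j c => eval p (t l j c).1 : J → ι → k) := by
      funext j c
      rw [Finset.sum_apply, Finset.sum_apply]
      apply mul_left_cancel₀ hj₀
      refine (hv j₀ j c).trans ?_
      simp only [hq, map_sum, map_mul, Pi.smul_apply, smul_eq_mul, Finset.mul_sum, Finset.sum_mul]
      rw [Finset.sum_comm]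
      refine Finset.sum_congr rfl fun l _ => Finset.sum_congr rfl fun b _ => ?_
      field_simp
    rw [h5]
    exact Submodule.sum_mem _ fun l _ => Submodule.smul_mem _ _ (Submodule.subset_span ⟨l, rfl⟩)
  have : Module.Finite k W := Module.Finite.span_of_finite k (Set.finite_range _)
  exact (Submodule.finrank_mono hW).trans (finrank_range_le_card _)

end K790.LineSide
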