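import Groth.Agent.VBPn.K790.Const
import Groth.Agent.VBPn.K790.BinForm

/-!
# The linear system of the sections along the lines through a point
-/

set_option autoImplicit false

universe u

open MvPolynomial

namespace K790.LineSys

open K790.BinForm K790.Const

section Sol

variable {A B : Type*} [CommRing A] [CommRing B] {ι J : Type*} [Fintype ι]

/-- The equations `g_j v_{j'} = v_j Q_{j'}`. -/
def IsSol (g : J → A) (q : ι → J → ι → A) (v : J → ι → A) : Prop :=
  ∀ j j' a, g j * v j' a = ∑ b, v j b * q b j' a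

theorem IsSol.map {g : J → A} {q : ι → J → ι → A} {v : J → ι → A} (h : IsSol g q v) (f : A →+* B) :
    IsSol (fun j => f (g j)) (fun b j a => f (q b j a)) (fun j a => f (v j a)) := by
  intro j j' a
  rw [← map_mul, h j j' a, map_sum]
  exact Finset.sum_congr rfl fun b _ => map_mul _ _ _

theorem IsSol.add {g : J → A} {q : ι → J → ι → A} {v w : J → ι → A} (h : IsSol g q v) (h' : IsSol g q w) :
    IsSol g q (v + w) := by
  intro j j' a
  simp only [Pi.add_apply, mul_add, add_mul, Finset.sum_add_distrib]
  rw [h, h']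

theorem IsSol.zero {g : J → A} {q : ι → J → ι → A} : IsSol g q (0 : J → ι → A) := by
  intro j j' a
  simp

theorem IsSol.smul {R : Type*} [CommSemiring R] [Algebra R A] {g : J → A} {q : ι → J → ι → A} {v : J → ι → A}
    (h : IsSol g q v) (c : R) : IsSol g q (c • v) := by
  intro j j' a
  simp only [Pi.smul_apply, mul_smul_comm, smul_mul_assoc, ← Finset.smul_sum]
  rw [h]

end Sol

section Eqn

variable {A B : Type*} [CommRing A] [CommRing B] {ι J : Type*} [Fintype ι] [Fintype J]

/-- Tuples of binary forms. -/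
noncomputable def tup (m : ℕ) : (J × ι × Fin (m + 1) → A) →ₗ[A] (J → ι → MvPolynomial (Fin 2) A) :=
  LinearMap.pi fun j => LinearMap.pi fun a => (form m).comp (LinearMap.funLeft A A fun e => (j, a, e))

theorem tup_apply (m : ℕ) (c : J × ι × Fin (m + 1) → A) (j : J) (a : ι) :
    tup m c j a = form m fun e => c (j, a, e) := rfl

theorem tup_injective (m : ℕ) : Function.Injective (tup (A := A) (J := J) (ι := ι) m) := by
  intro c c' h
  funext ⟨j, a, e⟩
  have := congrFun (congrFun h j) a
  rw [tup_apply, tup_apply] at this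
  exact congrFun (form_injective m this) e

/-- The coefficients of the equations. -/
noncomputable def eqn (g : J → MvPolynomial (Fin 2) A) (q : ι → J → ι → MvPolynomial (Fin 2) A) (m M : ℕ) :
    (J × ι × Fin (m + 1) → A) →ₗ[A] (J × J × ι × Fin (M + m + 1) → A) :=
  LinearMap.pi fun x => (lcoeff A (mon (M + m) x.2.2.2)).comp
    ((LinearMap.mulLeft A (g x.1)).comp ((LinearMap.proj x.2.2.1).comp ((LinearMap.proj x.2.1).comp (tup m))) -
      ∑ b, (LinearMap.mulRight A (q b x.2.1 x.2.2.1)).comp ((LinearMap.proj b).comp ((LinearMap.proj x.1).comp (tup m))))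

theorem eqn_apply (g : J → MvPolynomial (Fin 2) A) (q : ι → J → ι → MvPolynomial (Fin 2) A) (m M : ℕ)
    (c : J × ι × Fin (m + 1) → A) (x : J × J × ι × Fin (M + m + 1)) :
    eqn g q m M c x = coeff (mon (M + m) x.2.2.2)
      (g x.1 * tup m c x.2.1 x.2.2.1 - ∑ b, tup m c x.1 b * q b x.2.1 x.2.2.1) := by
  simp [eqn, LinearMap.sum_apply]

theorem eqn_eq_zero_iff {g : J → MvPolynomial (Fin 2) A} {q : ι → J → ι → MvPolynomial (Fin 2) A} {m M : ℕ}
    (hg : ∀ j, (g j).IsHomogeneous M) (hq : ∀ b j a, (q b j a).IsHomogeneous M) (c : J × ι × Fin (m + 1) → A) :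
    eqn g q m M c = 0 ↔ IsSol g q (tup m c) := by
  constructor
  · intro h j j' a
    rw [← sub_eq_zero]
    refine eq_zero_of_coeff (m := M + m) ?_ fun e => ?_
    · refine IsHomogeneous.sub ((hg j).mul (form_isHomogeneous _ _)) (IsHomogeneous.sum _ _ _ fun b _ => ?_)
      rw [add_comm M m]
      exact (form_isHomogeneous _ _).mul (hq _ _ _)
    · have := congrFun h (j, j', a, e)
      rw [eqn_apply] at this
      exact this
  · intro h
    funext x
    rw [eqn_apply, h, sub_self, coeff_zero]
    rfl

theorem map_tup (φ : A →+* B) (m : ℕ) (c : J × ι × Fin (m + 1) → A) (j : J) (a : ι) :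
    map φ (tup m c j a) = tup m (fun z => φ (c z)) j a := map_form φ m _

theorem map_eqn (φ : A →+* B) (g : J → MvPolynomial (Fin 2) A) (q : ι → J → ι → MvPolynomial (Fin 2) A) (m M : ℕ)
    (c : J × ι × Fin (m + 1) → A) (x : J × J × ι × Fin (M + m + 1)) :
    φ (eqn g q m M c x) = eqn (fun j => map φ (g j)) (fun b j a => map φ (q b j a)) m M (fun z => φ (c z)) x := by
  rw [eqn_apply, eqn_apply, ← coeff_map, map_sub, map_mul, map_sum, map_tup]
  congr 2
  refine Finset.sum_congr rfl fun b _ => ?_
  rw [map_mul, map_tup]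

end Eqn

section Line

variable {k : Type u} [Field k] {n : ℕ}

/-- Restriction to the line `(s, t) ↦ (s, t y)`. -/
noncomputable def ly (y : Fin n → k) : MvPolynomial (Fin (n + 1)) k →ₐ[k] MvPolynomial (Fin 2) k :=
  aeval (Fin.cons (X 0) fun i => C (y i) * X 1)

/-- The universal line. -/
noncomputable def LU (k : Type u) [Field k] (n : ℕ) :
    MvPolynomial (Fin (n + 1)) k →ₐ[k] MvPolynomial (Fin 2) (MvPolynomial (Fin n) k) :=
  aeval (Fin.cons (X 0) fun i => C (X i) * X 1)

theorem map_LU (y : Fin n → k) (f : MvPolynomial (Fin (n + 1)) k) : map (eval y) (LU k n f) = ly y f := by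
  induction f using MvPolynomial.induction_on with
  | C a =>
    rw [← MvPolynomial.algebraMap_eq, AlgHom.commutes, AlgHom.commutes]
    rw [IsScalarTower.algebraMap_apply k (MvPolynomial (Fin n) k) (MvPolynomial (Fin 2) (MvPolynomial (Fin n) k))]
    rw [MvPolynomial.algebraMap_eq, map_C, MvPolynomial.algebraMap_eq, eval_C, MvPolynomial.algebraMap_eq]
  | add p q hp hq => rw [map_add, map_add, map_add, hp, hq]
  | mul_X p i hp =>
    rw [map_mul, map_mul, map_mul, hp]
    congr 1
    rw [LU, ly, aeval_X, aeval_X]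
    refine Fin.cases ?_ (fun i => ?_) i
    · simp
    · simp

theorem LU_isHomogeneous {f : MvPolynomial (Fin (n + 1)) k} {d : ℕ} (hf : f.IsHomogeneous d) :
    (LU k n f).IsHomogeneous d := by
  have h := hf.eval₂ (algebraMap k (MvPolynomial (Fin 2) (MvPolynomial (Fin n) k)))
    (Fin.cons (X 0) fun i => C (X i) * X 1 : Fin (n + 1) → _) (n := 1) (fun a => isHomogeneous_C _ _) (fun i => by
      refine Fin.cases ?_ (fun i => ?_) i
      · exact isHomogeneous_X _ _
      · simpa using (isHomogeneous_C (Fin 2) (X i : MvPolynomial (Fin n) k)).mul (isHomogeneous_X _ 1))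
  rwa [one_mul] at h

theorem ly_isHomogeneous (y : Fin n → k) {f : MvPolynomial (Fin (n + 1)) k} {d : ℕ} (hf : f.IsHomogeneous d) :
    (ly y f).IsHomogeneous d := by
  rw [← map_LU]
  exact (LU_isHomogeneous hf).map _

theorem eval_ly (y : Fin n → k) (p : Fin 2 → k) (f : MvPolynomial (Fin (n + 1)) k) :
    eval p (ly y f) = eval (Fin.cons (p 0) fun i => y i * p 1) f := by
  rw [ly, ← aeval_eq_eval, ← aeval_eq_eval, ← AlgHom.comp_apply]
  congr 1
  apply MvPolynomial.algHom_ext
  intro i
  rw [AlgHom.comp_apply, aeval_X, aeval_X]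
  refine Fin.cases ?_ (fun i => ?_) i
  · simp
  · simp

/-- The inverse of the universal line. -/
noncomputable def theta (k : Type u) [Field k] (n : ℕ) :
    MvPolynomial (Fin 2) (MvPolynomial (Fin n) k) →+* MvPolynomial (Fin (n + 1)) k :=
  eval₂Hom (rename Fin.succ).toRingHom ![X 0, 1]

theorem theta_LU (f : MvPolynomial (Fin (n + 1)) k) : theta k n (LU k n f) = f := by
  induction f using MvPolynomial.induction_on with
  | C a =>
    rw [← MvPolynomial.algebraMap_eq, AlgHom.commutes]
    rw [IsScalarTower.algebraMap_apply k (MvPolynomial (Fin n) k) (MvPolynomial (Fin 2) (MvPolynomial (Fin n) k))]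
    rw [MvPolynomial.algebraMap_eq, MvPolynomial.algebraMap_eq, theta, coe_eval₂Hom, eval₂_C]
    simp
  | add p q hp hq => rw [map_add, map_add, hp, hq]
  | mul_X p i hp =>
    rw [map_mul, map_mul, hp]
    congr 1
    rw [LU, aeval_X, theta, coe_eval₂Hom]
    refine Fin.cases ?_ (fun i => ?_) i
    · simp
    · simp

theorem theta_form (m : ℕ) (c : Fin (m + 1) → MvPolynomial (Fin n) k) :
    theta k n (form m c) = ∑ e, rename Fin.succ (c e) * X 0 ^ (m - (e : ℕ)) := by
  rw [theta, coe_eval₂Hom, eval₂_form]
  refine Finset.sum_congr rfl fun e _ => ?_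
  simp

theorem coeff_rename_succ (c : MvPolynomial (Fin n) k) (i : ℕ) :
    coeff (Finsupp.single 0 i) (rename Fin.succ c) = if i = 0 then coeff 0 c else 0 := by
  split_ifs with h
  · subst h
    rw [Finsupp.single_zero, ← constantCoeff_eq, constantCoeff_rename, constantCoeff_eq]
  · refine coeff_rename_eq_zero _ _ _ fun u hu => ?_
    exfalso
    have h1 : (Finsupp.mapDomain Fin.succ u : Fin (n + 1) →₀ ℕ) 0 = 0 := by
      refine Finsupp.mapDomain_notin_range _ _ ?_
      rintro ⟨a, ha⟩
      exact Fin.succ_ne_zero a ha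
    rw [hu, Finsupp.single_eq_same] at h1
    exact h h1

theorem coeff_theta_form (m : ℕ) (c : Fin (m + 1) → MvPolynomial (Fin n) k) :
    coeff (Finsupp.single 0 m) (theta k n (form m c)) = coeff 0 (c 0) := by
  classical
  rw [theta_form, coeff_sum, Finset.sum_eq_single 0]
  · rw [X_pow_eq_monomial, coeff_mul_monomial']
    simp only [Fin.val_zero, Nat.sub_zero, le_refl, if_true, mul_one, tsub_self]
    rw [← Finsupp.single_zero (0 : Fin (n + 1)), coeff_rename_succ, if_pos rfl]
  · intro e _ he
    rw [X_pow_eq_monomial, coeff_mul_monomial']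
    split_ifs with h
    · rw [← Finsupp.single_tsub, coeff_rename_succ, if_neg, zero_mul]
      have := e.2
      have h2 : (e : ℕ) ≠ 0 := fun h' => he (Fin.ext h')
      omega
    · rfl
  · intro h; exact absurd (Finset.mem_univ _) h

/-- The value of a form at a point of the distinguished line. -/
theorem eval_cons_zero {F : MvPolynomial (Fin (n + 1)) k} {m : ℕ} (hF : F.IsHomogeneous m) (x : k) :
    eval (Fin.cons x 0 : Fin (n + 1) → k) F = x ^ m * coeff (Finsupp.single 0 m) F := by
  classical
  rw [eval_eq]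
  by_cases h : Finsupp.single 0 m ∈ F.support
  · rw [Finset.sum_eq_single (Finsupp.single 0 m)]
    · rw [mul_comm]
      congr 1
      rcases Nat.eq_zero_or_pos m with rfl | hm
      · simp
      · rw [Finsupp.support_single_ne_zero _ hm.ne', Finset.prod_singleton]
        simp
    · intro d hd hne
      obtain ⟨i, hi⟩ : ∃ i : Fin n, d i.succ ≠ 0 := by
        by_contra hcon
        push Not at hcon
        apply hne
        have h1 : d.degree = m := by
          by_contra h2
          exact (mem_support_iff.mp hd) (hF.coeff_eq_zero h2)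
        rw [Finsupp.degree_eq_sum, Fin.sum_univ_succ, Finset.sum_eq_zero (fun i _ => hcon i), add_zero] at h1
        ext j
        refine Fin.cases ?_ (fun i => ?_) j
        · rw [Finsupp.single_eq_same]; exact h1
        · rw [hcon i, Finsupp.single_eq_of_ne (Fin.succ_ne_zero i)]
      rw [Finset.prod_eq_zero (i := i.succ) (Finsupp.mem_support_iff.mpr hi), mul_zero]
      simp [hi]
    · intro h'; exact absurd h h'
  · rw [mem_support_iff, not_not] at h
    rw [h, mul_zero]
    refine Finset.sum_eq_zero fun d hd => ?_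
    obtain ⟨i, hi⟩ : ∃ i : Fin n, d i.succ ≠ 0 := by
      by_contra hcon
      push Not at hcon
      apply mem_support_iff.mp hd
      have h1 : d.degree = m := by
        by_contra h2
        exact (mem_support_iff.mp hd) (hF.coeff_eq_zero h2)
      rw [Finsupp.degree_eq_sum, Fin.sum_univ_succ, Finset.sum_eq_zero (fun i _ => hcon i), add_zero] at h1
      have h3 : d = Finsupp.single 0 m := by
        ext j
        refine Fin.cases ?_ (fun i => ?_) j
        · rw [Finsupp.single_eq_same]; exact h1
        · rw [hcon i, Finsupp.single_eq_of_ne (Fin.succ_ne_zero i)]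
      rw [h3, h]
    rw [Finset.prod_eq_zero (i := i.succ) (Finsupp.mem_support_iff.mpr hi), mul_zero]
    simp [hi]

attribute [local instance] MvPolynomial.gradedAlgebra

theorem hc_mul {f F : MvPolynomial (Fin (n + 1)) k} {M : ℕ} (hf : f.IsHomogeneous M) (m : ℕ) :
    homogeneousComponent (M + m) (f * F) = f * homogeneousComponent m F := by
  have h1 := DirectSum.coe_decompose_mul_add_of_left_mem (homogeneousSubmodule (Fin (n + 1)) k) (b := F) (j := m)
    (show f ∈ homogeneousSubmodule (Fin (n + 1)) k M from hf)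
  have h2 : ∀ (G : MvPolynomial (Fin (n + 1)) k) (i : ℕ),
      (DirectSum.decompose (homogeneousSubmodule (Fin (n + 1)) k) G i : MvPolynomial (Fin (n + 1)) k) =
        homogeneousComponent i G := fun G i => decomposition.decompose'_apply G i
  rwa [h2, h2] at h1

end Line

end K790.LineSys
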